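import Mathlib.Analysis.Fourier.FiniteAbelian.PontryaginDuality
import Mathlib.LinearAlgebra.Trace
import Mathlib.Data.Complex.Basic

/-!
Eigencharacter decomposition for a finite abelian group of endomorphisms (helper56).
-/

set_option autoImplicit false

noncomputable section

namespace Cfsg.Agent.CrossChar56.RankOne

variable {A : Type*} [AddCommGroup A] {V : Type*} [AddCommGroup V] [Module ℂ V]
  (R : A → Module.End ℂ V)

/-- the eigenspace of a character -/
def eig (φ : AddChar A ℂ) : Submodule ℂ V where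
  carrier := {v | ∀ a, R a v = φ a • v}
  zero_mem' a := by simp
  add_mem' := fun {u v} hu hv a => by rw [map_add, hu, hv, smul_add]
  smul_mem' c v hv a := by rw [map_smul, hv, smul_comm]

theorem mem_eig {φ : AddChar A ℂ} {v : V} : v ∈ eig R φ ↔ ∀ a, R a v = φ a • v := Iff.rfl

variable [Fintype A]

/-- the projection on an eigenspace -/
def pr (φ : AddChar A ℂ) : Module.End ℂ V := (Fintype.card A : ℂ)⁻¹ • ∑ a, φ (-a) • R a

variable {R} (hR : ∀ a b, R (a + b) = R a * R b) (h0 : R 0 = 1)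

theorem sum_pr (h0 : R 0 = 1) : ∑ φ : AddChar A ℂ, pr R φ = 1 := by
  classical
  simp only [pr, ← Finset.smul_sum]
  rw [Finset.sum_comm]
  simp only [← Finset.sum_smul, AddChar.sum_apply_eq_ite]
  rw [Finset.sum_eq_single (0 : A)]
  · rw [if_pos neg_zero, h0, smul_smul, inv_mul_cancel₀ (Nat.cast_ne_zero.mpr Fintype.card_ne_zero),
      one_smul]
  · intro a _ ha; simp [neg_ne_zero.mpr ha]
  · simp

theorem exists_sum_pr (h0 : R 0 = 1) (v : V) : ∑ φ : AddChar A ℂ, pr R φ v = v := by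
  rw [← LinearMap.sum_apply, sum_pr h0]; rfl

include hR in
theorem pr_mem (φ : AddChar A ℂ) (v : V) : pr R φ v ∈ eig R φ := by
  intro a
  simp only [pr, LinearMap.smul_apply, LinearMap.sum_apply, map_smul, map_sum]
  rw [smul_comm (φ a)]
  congr 1
  rw [Finset.smul_sum]
  refine Fintype.sum_equiv (Equiv.addLeft a) _ _ fun b => ?_
  simp only [Equiv.coe_addLeft, smul_smul, ← AddChar.map_add_eq_mul, hR, Module.End.mul_apply]
  congr 2
  abel

include hR in
theorem pr_comm (φ : AddChar A ℂ) (a : A) (v : V) : pr R φ (R a v) = R a (pr R φ v) := by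
  simp only [pr, LinearMap.smul_apply, LinearMap.sum_apply, map_smul, map_sum]
  congr 1
  refine Finset.sum_congr rfl fun b _ => ?_
  rw [← Module.End.mul_apply, ← hR, ← Module.End.mul_apply, ← hR, add_comm]

omit [AddCommGroup A] [Fintype A] in
theorem eig_unique [AddCommGroup A] {φ ψ : AddChar A ℂ} {v : V} (hv : v ≠ 0)
    (h : v ∈ eig R φ) (h' : v ∈ eig R ψ) : φ = ψ := by
  ext a
  exact smul_left_injective ℂ hv ((h a).symm.trans (h' a))

theorem pr_eig (φ : AddChar A ℂ) {v : V} (hv : v ∈ eig R φ) : pr R φ v = v := by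
  simp only [pr, LinearMap.smul_apply, LinearMap.sum_apply, hv _, smul_smul,
    ← AddChar.map_add_eq_mul, neg_add_cancel, AddChar.map_zero_eq_one, one_smul]
  rw [Finset.sum_const, Finset.card_univ, ← Nat.cast_smul_eq_nsmul ℂ, smul_smul,
    inv_mul_cancel₀ (Nat.cast_ne_zero.mpr Fintype.card_ne_zero), one_smul]

include hR in
theorem finrank_eig [FiniteDimensional ℂ V] (φ : AddChar A ℂ) :
    (Module.finrank ℂ (eig R φ) : ℂ) =
      (Fintype.card A : ℂ)⁻¹ * ∑ a, φ (-a) * LinearMap.trace ℂ V (R a) := by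
  have hp : LinearMap.IsProj (eig R φ) (pr R φ) := ⟨pr_mem hR φ, fun v hv => pr_eig φ hv⟩
  rw [← hp.trace]
  simp [pr, map_sum, smul_eq_mul]

include hR h0 in
theorem exists_eig_ne {v : V} (hv : v ≠ 0) : ∃ φ : AddChar A ℂ, pr R φ v ≠ 0 := by
  by_contra hc
  push Not at hc
  exact hv ((exists_sum_pr h0 v).symm.trans (Finset.sum_eq_zero fun φ _ => hc φ))

include hR h0 in
/-- if an eigencharacter is determined by its values on a subset, eigenvectors on the subset are
eigenvectors -/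
theorem mem_eig_of_subset (S : Set A) (φ₀ : AddChar A ℂ) {v : V}
    (hv : ∀ a ∈ S, R a v = φ₀ a • v)
    (hdet : ∀ φ : AddChar A ℂ, ∀ u ≠ 0, u ∈ eig R φ → (∀ a ∈ S, φ a = φ₀ a) → φ = φ₀) :
    v ∈ eig R φ₀ := by
  rw [← exists_sum_pr (R := R) h0 v]
  refine Submodule.sum_mem _ fun φ _ => ?_
  by_cases h : pr R φ v = 0
  · rw [h]; exact Submodule.zero_mem _
  · have hφ : φ = φ₀ := hdet φ _ h (pr_mem hR φ v) fun a ha => smul_left_injective ℂ h (by
      show φ a • pr R φ v = φ₀ a • pr R φ v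
      rw [← pr_mem hR φ v a, ← pr_comm hR, hv a ha, map_smul])
    exact hφ ▸ pr_mem hR φ v

include hR h0 in
theorem card_le_finrank [FiniteDimensional ℂ V] (T : Finset (AddChar A ℂ))
    (hT : ∀ φ ∈ T, eig R φ ≠ ⊥) : T.card ≤ Module.finrank ℂ V := by
  classical
  have h : (Module.finrank ℂ V : ℂ) = ∑ φ : AddChar A ℂ, (Module.finrank ℂ (eig R φ) : ℂ) := by
    rw [← LinearMap.trace_one, ← sum_pr (R := R) h0, map_sum]
    refine Finset.sum_congr rfl fun φ _ => ?_
    have hp : LinearMap.IsProj (eig R φ) (pr R φ) := ⟨pr_mem hR φ, fun v hv => pr_eig φ hv⟩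
    exact hp.trace
  rw [← Nat.cast_sum, Nat.cast_inj] at h
  rw [h]
  calc T.card = ∑ _φ ∈ T, 1 := by simp
    _ ≤ ∑ φ ∈ T, Module.finrank ℂ (eig R φ) :=
        Finset.sum_le_sum fun φ hφ => Submodule.one_le_finrank_iff.mpr (hT φ hφ)
    _ ≤ _ := Finset.sum_le_sum_of_subset (Finset.subset_univ T)

end Cfsg.Agent.CrossChar56.RankOne
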