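import Cfsg.Agent.CrossChar56.SpBound
import Cfsg.Agent.Lib.Symplectic.Basic
import Mathlib.LinearAlgebra.Matrix.Transvection

/-!
Elements of `Sp_{2n}` used in the rank one argument (helper56): partial Fourier elements, lower
triangular elements, Levi elements, and generation.
-/

set_option autoImplicit false

namespace Cfsg.Agent.CrossChar56.RankOne

open Matrix SpBound

variable {F : Type*} [Field F] {n : ℕ}

/-- projection on a set of coordinates -/
def prj (s : Finset (Fin n)) : Matrix (Fin n) (Fin n) F :=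
  Matrix.diagonal fun k => if k ∈ s then 1 else 0

theorem prj_transpose (s : Finset (Fin n)) : (prj s : Matrix (Fin n) (Fin n) F)ᵀ = prj s :=
  diagonal_transpose _

theorem prj_mul (s t : Finset (Fin n)) :
    (prj s : Matrix (Fin n) (Fin n) F) * prj t = prj (s ∩ t) := by
  rw [prj, prj, prj, diagonal_mul_diagonal]
  congr 1
  funext k
  by_cases hs : k ∈ s <;> by_cases ht : k ∈ t <;> simp [hs, ht]

theorem prj_self (s : Finset (Fin n)) :
    (prj s : Matrix (Fin n) (Fin n) F) * prj s = prj s := by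
  rw [prj_mul, Finset.inter_self]

/-- the partial Fourier element on a set of coordinates -/
def wel (s : Finset (Fin n)) : symplecticGroup (Fin n) F :=
  ⟨fromBlocks (1 - prj s) (prj s) (-prj s) (1 - prj s), by
    rw [SymplecticGroup.mem_iff]
    simp [Matrix.J, fromBlocks_multiply, fromBlocks_transpose, prj_transpose, mul_sub, sub_mul,
      prj_self]
    abel⟩

/-- lower unitriangular elements -/
def low (S : Sym n F) : symplecticGroup (Fin n) F :=
  ⟨fromBlocks 1 0 S.1 1, by
    rw [SymplecticGroup.mem_iff]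
    have h : S.1ᵀ = S.1 := S.2
    simp [Matrix.J, fromBlocks_multiply, fromBlocks_transpose, h]⟩

theorem wel_mul_wel {s t : Finset (Fin n)} (h : Disjoint s t) :
    (wel s : symplecticGroup (Fin n) F) * wel t = wel (s ∪ t) := by
  have h0 : (prj s : Matrix (Fin n) (Fin n) F) * prj t = 0 := by
    rw [prj_mul, Finset.disjoint_iff_inter_eq_empty.mp h]
    simp [prj]
  have hu : (prj (s ∪ t) : Matrix (Fin n) (Fin n) F) = prj s + prj t := by
    rw [prj, prj, prj, diagonal_add]
    congr 1
    funext k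
    by_cases hs : k ∈ s
    · simp [hs, Finset.disjoint_left.mp h hs]
    · by_cases ht : k ∈ t <;> simp [hs, ht]
  apply Subtype.ext
  simp only [Submonoid.coe_mul, wel]
  rw [fromBlocks_multiply, hu]
  congr 1 <;> simp [mul_sub, sub_mul, h0] <;> abel

theorem wel_empty : (wel ∅ : symplecticGroup (Fin n) F) = 1 := by
  apply Subtype.ext
  simp [wel, prj, fromBlocks_one]

theorem wel_comm (i j : Fin n) :
    (wel {i} : symplecticGroup (Fin n) F) * wel {j} = wel {j} * wel {i} := by
  by_cases h : i = j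
  · rw [h]
  · rw [wel_mul_wel (by simpa using h), wel_mul_wel (by simpa using Ne.symm h), Finset.union_comm]

theorem wel_mem {K : Submonoid (symplecticGroup (Fin n) F)} {s : Finset (Fin n)}
    (h : ∀ j ∈ s, wel {j} ∈ K) : wel s ∈ K := by
  induction s using Finset.induction with
  | empty => rw [wel_empty]; exact K.one_mem
  | insert j s hj ih =>
    rw [Finset.insert_eq, ← wel_mul_wel (by simpa using hj)]
    exact K.mul_mem (h j (by simp)) (ih fun k hk => h k (by simp [hk]))

theorem sieg_wel_comm {S : Sym n F} {s : Finset (Fin n)} (h : prj s * S.1 = 0) :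
    sieg S * wel s = wel s * sieg S := by
  have h' : S.1 * prj s = 0 := by
    have := congrArg Matrix.transpose h
    rwa [transpose_mul, show S.1ᵀ = S.1 from S.2, prj_transpose, transpose_zero] at this
  apply Subtype.ext
  simp [wel, sieg, fromBlocks_multiply, mul_sub, sub_mul, h, h']
  abel

theorem low_wel {B : Sym n F} {s : Finset (Fin n)} (h : prj s * B.1 = B.1) :
    low B * wel s = wel s * sieg (-B) := by
  have h' : B.1 * prj s = B.1 := by
    have := congrArg Matrix.transpose h
    rwa [transpose_mul, show B.1ᵀ = B.1 from B.2, prj_transpose] at this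
  apply Subtype.ext
  simp [wel, sieg, low, fromBlocks_multiply, mul_sub, sub_mul, h, h']

/-- `wel = u v u` -/
theorem wel_eq (j : Fin n) :
    (wel {j} : symplecticGroup (Fin n) F) =
      sieg (rk1 1 (Pi.single j 1)) * low (-rk1 1 (Pi.single j 1)) * sieg (rk1 1 (Pi.single j 1)) := by
  have e : (rk1 (1 : F) (Pi.single j 1 : Fin n → F)).1 = prj {j} := by
    ext a b
    by_cases ha : a = j <;> by_cases hb : b = j <;>
      simp [rk1, prj, vecMulVec_apply, Matrix.diagonal_apply, ha, hb, Ne.symm]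
  apply Subtype.ext
  simp [wel, sieg, low, fromBlocks_multiply, e, prj_self, add_mul, sub_eq_add_neg]
  abel

theorem coe_lev (g : GL (Fin n) F) :
    (lev g).1 = fromBlocks (g : Matrix (Fin n) (Fin n) F) 0 0
      ((g⁻¹ : GL (Fin n) F) : Matrix (Fin n) (Fin n) F)ᵀ := rfl

theorem lev_one : lev (1 : GL (Fin n) F) = 1 := by
  apply Subtype.ext
  simp [lev, fromBlocks_one]

theorem lev_mul_lev (g h : GL (Fin n) F) : lev (g * h) = lev g * lev h := by
  apply Subtype.ext
  simp [lev, fromBlocks_multiply, transpose_mul]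

/-- the Levi element of a block symmetric matrix -/
theorem lev_symm_eq {s : Finset (Fin n)} {A B : Sym n F} (g : GL (Fin n) F)
    (hg : (g : Matrix (Fin n) (Fin n) F) = 1 - prj s + A.1)
    (hg' : ((g⁻¹ : GL (Fin n) F) : Matrix (Fin n) (Fin n) F) = 1 - prj s + B.1)
    (hA : prj s * A.1 = A.1) (hB : prj s * B.1 = B.1) (hAB : A.1 * B.1 = prj s) :
    lev g * wel s = sieg A * low (-B) * sieg A := by
  have hA' : A.1 * prj s = A.1 := by
    have := congrArg Matrix.transpose hA
    rwa [transpose_mul, show A.1ᵀ = A.1 from A.2, prj_transpose] at this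
  have hB' : B.1 * prj s = B.1 := by
    have := congrArg Matrix.transpose hB
    rwa [transpose_mul, show B.1ᵀ = B.1 from B.2, prj_transpose] at this
  have hBA : B.1 * A.1 = prj s := by
    have := congrArg Matrix.transpose hAB
    rwa [transpose_mul, show A.1ᵀ = A.1 from A.2, show B.1ᵀ = B.1 from B.2, prj_transpose] at this
  apply Subtype.ext
  simp only [Submonoid.coe_mul, coe_lev, wel, sieg, low, hg, hg', transpose_add, transpose_sub,
    transpose_one, prj_transpose, show B.1ᵀ = B.1 from B.2, fromBlocks_multiply,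
    AddSubgroup.coe_neg]
  simp [mul_sub, sub_mul, add_mul, mul_add, prj_self, hA, hA', hB, hB', hAB, hBA]
  refine ⟨?_, ?_⟩ <;> abel_nf

theorem lev_wel {g : GL (Fin n) F} {s t : Finset (Fin n)}
    (h : (g : Matrix (Fin n) (Fin n) F) * prj t = prj s * (g : Matrix (Fin n) (Fin n) F))
    (h' : ((g⁻¹ : GL (Fin n) F) : Matrix (Fin n) (Fin n) F)ᵀ * prj t =
      prj s * ((g⁻¹ : GL (Fin n) F) : Matrix (Fin n) (Fin n) F)ᵀ)
    (h'' : (g : Matrix (Fin n) (Fin n) F) * prj t =
      prj s * ((g⁻¹ : GL (Fin n) F) : Matrix (Fin n) (Fin n) F)ᵀ) :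
    lev g * wel t = wel s * lev g := by
  have h3 : ((g⁻¹ : GL (Fin n) F) : Matrix (Fin n) (Fin n) F)ᵀ * prj t =
      prj s * (g : Matrix (Fin n) (Fin n) F) := by rw [h', ← h'', h]
  apply Subtype.ext
  simp only [Submonoid.coe_mul, wel, coe_lev, fromBlocks_multiply, mul_sub, sub_mul, mul_one,
    one_mul, mul_neg, neg_mul, mul_zero, zero_mul, add_zero, zero_add]
  rw [h3, ← h, ← h'']
  simp [sub_eq_add_neg]

/-- the monoid containing all upper elements and all `wel {j}` is everything -/
theorem mem_of_generators [Fintype F] (hn : 1 ≤ n) {K : Submonoid (symplecticGroup (Fin n) F)}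
    (hS : ∀ S, sieg S ∈ K) (hw : ∀ j, wel {j} ∈ K) (g : symplecticGroup (Fin n) F) : g ∈ K := by
  classical
  have hinv : ∀ {x}, x ∈ K → x⁻¹ ∈ K := fun {x} hx => by
    rw [inv_eq_of_mul_eq_one_right (show x * x ^ (orderOf x - 1) = 1 by
      rw [← pow_succ', Nat.sub_add_cancel (orderOf_pos x), pow_orderOf_eq_one])]
    exact K.pow_mem hx _
  have hlow : ∀ B, low B ∈ K := fun B => by
    have h : low B = wel Finset.univ * sieg (-B) * (wel Finset.univ)⁻¹ := by
      rw [← low_wel (by simp [prj]), mul_inv_cancel_right]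
    rw [h]
    exact K.mul_mem (K.mul_mem (wel_mem fun j _ => hw j) (hS _)) (hinv (wel_mem fun j _ => hw j))
  let G : Subgroup (symplecticGroup (Fin n) F) :=
    { K with inv_mem' := hinv }
  have up : ∀ (S : Sym n F) (a b : Fin n → F),
      sieg S • (Sum.elim a b : Fin n ⊕ Fin n → F) = Sum.elim (a + S.1 *ᵥ b) b := fun S a b => by
    rw [Symplectic.smul_eq]
    simp [sieg, fromBlocks_mulVec]
  have down : ∀ (S : Sym n F) (a b : Fin n → F),
      low S • (Sum.elim a b : Fin n ⊕ Fin n → F) = Sum.elim a (S.1 *ᵥ a + b) := fun S a b => by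
    rw [Symplectic.smul_eq]
    simp [low, fromBlocks_mulVec]
  have symm_map : ∀ b : Fin n → F, b ≠ 0 → ∀ a, ∃ S : Sym n F, S.1 *ᵥ b = a := by
    intro b hb a
    obtain ⟨k, hk⟩ := Function.ne_iff.mp hb
    let v : Fin n → F := Pi.single k (b k)⁻¹
    have hv : v ⬝ᵥ b = 1 := by simp [v, single_dotProduct, inv_mul_cancel₀ hk]
    refine ⟨rk2 1 a v - rk1 (a ⬝ᵥ b) v, ?_⟩
    simp [rk2, rk1, AddSubgroup.coe_sub, sub_mulVec, add_mulVec, vecMulVec_mulVec, smul_mulVec, hv]
  let i₀ : Fin n := ⟨0, hn⟩
  let e : Fin n → F := Pi.single i₀ 1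
  have he : e ≠ 0 := by simp [e]
  have orbit0 : ∀ (a b : Fin n → F), b ≠ 0 →
      ∃ x ∈ G, x • (Sum.elim e 0 : Fin n ⊕ Fin n → F) = Sum.elim a b := by
    intro a b hb
    obtain ⟨S, hS'⟩ := symm_map e he b
    obtain ⟨T, hT⟩ := symm_map b hb (a - e)
    refine ⟨sieg T * low S, K.mul_mem (hS T) (hlow S), ?_⟩
    rw [mul_smul, down, up, hS', add_zero, hT, add_sub_cancel]
  have orbit : ∀ v : Fin n ⊕ Fin n → F, v ≠ 0 →
      ∃ x ∈ G, x • (Sum.elim e 0 : Fin n ⊕ Fin n → F) = v := by
    intro v hv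
    rw [← Sum.elim_comp_inl_inr v]
    by_cases hb : v ∘ Sum.inr = 0
    · have ha : v ∘ Sum.inl ≠ 0 := by
        intro ha
        apply hv
        rw [← Sum.elim_comp_inl_inr v, ha, hb]
        funext x; rcases x with x | x <;> rfl
      obtain ⟨S, hS'⟩ := symm_map _ ha e
      obtain ⟨x, hx, hxv⟩ := orbit0 (v ∘ Sum.inl) e he
      refine ⟨(low S)⁻¹ * x, G.mul_mem (G.inv_mem (hlow S)) hx, ?_⟩
      rw [mul_smul, hxv, inv_smul_eq_iff, down, hS', hb, add_zero]
    · exact orbit0 _ _ hb
  have htv : ∀ c, Symplectic.tv (Sum.elim e 0 : Fin n ⊕ Fin n → F) c ∈ G := by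
    intro c
    have key : ∀ x : Fin n ⊕ Fin n → F,
        Symplectic.tv (Sum.elim e 0 : Fin n ⊕ Fin n → F) c • x = sieg (rk1 c e) • x := by
      intro x
      rw [← Sum.elim_comp_inl_inr x, up, Symplectic.tv_smul, Symplectic.sympForm_eq_sum]
      funext y
      rcases y with y | y
      · simp [rk1, vecMulVec_mulVec, smul_mulVec, e, single_dotProduct, dotProduct,
          Pi.single_apply]
      · simp
    rw [Symplectic.eq_of_smul_eq key]
    exact hS _
  have htop : G = ⊤ := by
    rw [eq_top_iff, ← Symplectic.closure_transvections, Subgroup.closure_le]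
    rintro A ⟨v, c, hA⟩
    obtain rfl : A = Symplectic.tv v c := Subtype.ext hA
    by_cases hv : v = 0
    · have h1 : Symplectic.tv v c = 1 := Symplectic.eq_of_smul_eq fun x => by
        rw [Symplectic.tv_smul, hv, smul_zero, add_zero, one_smul]
      rw [h1]; exact G.one_mem
    · obtain ⟨x, hx, rfl⟩ := orbit v hv
      rw [← Symplectic.conj_tv]
      exact G.mul_mem (G.mul_mem hx (htv c)) (G.inv_mem hx)
  have : g ∈ G := htop ▸ Subgroup.mem_top g
  exact this

end Cfsg.Agent.CrossChar56.RankOne
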