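import Cfsg.Agent.CrossChar56.RankOne.Slice

/-!
A rank one representation receives a nonzero map from the Weil representation (helper56).
-/

set_option autoImplicit false
set_option linter.unusedSectionVars false

noncomputable section

namespace Cfsg.Agent.CrossChar56.RankOne

open Matrix SpBound

variable {F : Type*} [Field F] {n : ℕ} [Fintype F]

theorem exists_act_eq (i : Fin n) {z : Fin n → F} (hz : z ≠ 0) :
    ∃ A : GL (Fin n) F, act A (Pi.single i 1) = z := by
  classical
  obtain ⟨k, hk⟩ := Function.ne_iff.mp hz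
  let g : GL (Fin n) F := GeneralLinearGroup.mkOfDetNeZero
    ((1 : Matrix (Fin n) (Fin n) F).updateCol k z) (by
      rw [← cramer_apply, cramer_one]; exact hk)
  let P : GL (Fin n) F :=
    { val := (1 : Matrix (Fin n) (Fin n) F).submatrix (Equiv.swap i k) id
      inv := (1 : Matrix (Fin n) (Fin n) F).submatrix (Equiv.swap i k) id
      val_inv := by
        ext p r
        rw [Matrix.mul_apply, Finset.sum_eq_single (Equiv.swap i k p)]
        · simp [Matrix.one_apply]
        · intro q _ hq; simp [Matrix.one_apply, Ne.symm hq]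
        · simp
      inv_val := by
        ext p r
        rw [Matrix.mul_apply, Finset.sum_eq_single (Equiv.swap i k p)]
        · simp [Matrix.one_apply]
        · intro q _ hq; simp [Matrix.one_apply, Ne.symm hq]
        · simp }
  have hv : ((g * P : GL (Fin n) F) : Matrix (Fin n) (Fin n) F) *ᵥ Pi.single i 1 = z := by
    rw [Units.val_mul, ← mulVec_mulVec]
    have e : (P : Matrix (Fin n) (Fin n) F) *ᵥ Pi.single i 1 = Pi.single k 1 := by
      funext p
      rw [mulVec_single_one]
      show (1 : Matrix (Fin n) (Fin n) F) (Equiv.swap i k p) i = _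
      by_cases hp : p = k
      · subst hp; rw [Pi.single_eq_same, Equiv.swap_apply_right]; exact one_apply_eq i
      · rw [Pi.single_eq_of_ne hp, one_apply_ne]
        intro h
        exact hp ((Equiv.swap i k).injective (h.trans (Equiv.swap_apply_right i k).symm))
    rw [e, mulVec_single_one]
    funext p
    show ((1 : Matrix (Fin n) (Fin n) F).updateCol k z) p k = z p
    simp
  let u : GL (Fin n) F := g * P
  let A : GL (Fin n) F :=
    { val := ((u⁻¹ : GL (Fin n) F) : Matrix (Fin n) (Fin n) F)ᵀ
      inv := (u : Matrix (Fin n) (Fin n) F)ᵀ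
      val_inv := by rw [← transpose_mul, Units.mul_inv, transpose_one]
      inv_val := by rw [← transpose_mul, Units.inv_mul, transpose_one] }
  refine ⟨A, ?_⟩
  show ((u : Matrix (Fin n) (Fin n) F)ᵀ)ᵀ *ᵥ _ = z
  rw [transpose_transpose]
  exact hv

theorem act_ne_zero (A : GL (Fin n) F) {z : Fin n → F} (hz : z ≠ 0) : act A z ≠ 0 := fun h =>
  hz (by rw [← act_inv_act A z, h, act, mulVec_zero])

/-- the scaling of one coordinate -/
def sca (k : Fin n) {a : F} (ha : a ≠ 0) : GL (Fin n) F where
  val := Matrix.diagonal (Function.update 1 k a⁻¹)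
  inv := Matrix.diagonal (Function.update 1 k a)
  val_inv := by
    rw [diagonal_mul_diagonal, ← diagonal_one]; congr 1; funext p
    by_cases hp : p = k
    · subst hp; simp [inv_mul_cancel₀ ha]
    · simp [hp]
  inv_val := by
    rw [diagonal_mul_diagonal, ← diagonal_one]; congr 1; funext p
    by_cases hp : p = k
    · subst hp; simp [mul_inv_cancel₀ ha]
    · simp [hp]

theorem act_sca (k : Fin n) {a : F} (ha : a ≠ 0) (z : Fin n → F) :
    act (sca k ha) z = Function.update z k (a * z k) := by
  funext p
  show ((Matrix.diagonal (Function.update (1 : Fin n → F) k a))ᵀ *ᵥ z) p = _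
  rw [diagonal_transpose, mulVec_diagonal]
  by_cases hp : p = k
  · subst hp; simp
  · simp [hp]

theorem sca_wel {j k : Fin n} (hjk : k ≠ j) {a : F} (ha : a ≠ 0) :
    lev (sca k ha) * wel {j} = wel {j} * lev (sca k ha) := by
  have e : ∀ b : F, (Matrix.diagonal (Function.update (1 : Fin n → F) k b)) * prj {j} = prj {j} ∧
      prj {j} * (Matrix.diagonal (Function.update (1 : Fin n → F) k b)) = prj {j} := by
    intro b
    rw [prj, diagonal_mul_diagonal, diagonal_mul_diagonal]
    constructor <;> congr 1 <;> funext p <;> by_cases hp : p = j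
    · subst hp; simp [hjk.symm]
    · simp [hp]
    · subst hp; simp [hjk.symm]
    · simp [hp]
  have e1 := e a⁻¹
  have e2 := e a
  refine lev_wel ?_ ?_ ?_ <;>
    simp [sca, diagonal_transpose, e1.1, e1.2, e2.1, e2.2]

theorem wel_sq (j : Fin n) :
    ∃ g : GL (Fin n) F, (wel {j} : symplecticGroup (Fin n) F) * wel {j} = lev g := by
  refine ⟨⟨1 - prj {j} - prj {j}, 1 - prj {j} - prj {j}, ?_, ?_⟩, ?_⟩
  · simp [mul_sub, sub_mul, prj_self]
  · simp [mul_sub, sub_mul, prj_self]
  · apply Subtype.ext
    simp [wel, coe_lev, fromBlocks_multiply, mul_sub, sub_mul, prj_self, prj_transpose]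
    constructor <;> abel

theorem single_eq_of {j : Fin n} {z : Fin n → F} (h : ∀ k, k ≠ j → z k = 0) :
    z = Pi.single j (z j) := by
  funext k
  by_cases hk : k = j
  · subst hk; simp
  · simp [hk, h k hk]

variable {V : Type*} [AddCommGroup V] [Module ℂ V] {ψ : AddChar F ℂ} (M : Model (n := n) ψ)
  (ρ : Representation ℂ (symplecticGroup (Fin n) F) V) (h2 : (2 : F) ≠ 0) (hψ : ψ.IsPrimitive)
  (hrank : ∀ (φ : AddChar (Sym n F) ℂ) (v : V), v ≠ 0 → v ∈ eig (fun S => ρ (sieg S)) φ →
    ∃ (c : F) (x : Fin n → F), ∀ S, φ S = ψ (c * qv S x))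

include h2 hψ hrank in
/-- a nonzero intertwiner -/
theorem exists_hom (hn : 2 ≤ n) (i₀ : Fin n) {μ : V} (hμ : μ ∈ Ms ψ ρ i₀) :
    ∃ T : ((Fin n → F) → ℂ) →ₗ[ℂ] V,
      (∀ g f, T (M.ω g f) = ρ g (T f)) ∧ T (dl (Pi.single i₀ 1)) = μ := by
  classical
  choose A hA using fun (z : {z : Fin n → F // z ≠ 0}) => exists_act_eq i₀ z.2
  let Φ : (Fin n → F) → V := fun z =>
    if h : z = 0 then 0 else (M.χ (A ⟨z, h⟩))⁻¹ • ρ (lev (A ⟨z, h⟩)) μ
  have hΦ : ∀ B : GL (Fin n) F,
      Φ (act B (Pi.single i₀ 1)) = (M.χ B)⁻¹ • ρ (lev B) μ := by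
    intro B
    have hne : act B (Pi.single i₀ 1) ≠ (0 : Fin n → F) := act_ne_zero B (by simp)
    simp only [Φ, dif_neg hne]
    set C := A ⟨act B (Pi.single i₀ 1), hne⟩ with hC
    have hfix : act (B⁻¹ * C) (Pi.single i₀ 1) = (Pi.single i₀ 1 : Fin n → F) := by
      rw [act_mul, hC, hA ⟨_, hne⟩, act_inv_act]
    have h := stab M ρ i₀ h2 hψ hrank hfix hμ
    have e : C = B * (B⁻¹ * C) := (mul_inv_cancel_left B C).symm
    conv_lhs => rw [e, M.χ_mul, lev_mul_lev, map_mul, Module.End.mul_apply, h, map_smul]
    rw [smul_smul, mul_inv, mul_assoc, inv_mul_cancel₀ (χ_ne M _), mul_one]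
  have hAct : ∀ (B : GL (Fin n) F) (z : Fin n → F), z ≠ 0 →
      ρ (lev B) (Φ z) = M.χ B • Φ (act B z) := by
    intro B z hz
    obtain ⟨C, rfl⟩ : ∃ C, act C (Pi.single i₀ 1) = z := ⟨_, hA ⟨z, hz⟩⟩
    rw [← act_mul, hΦ, hΦ, map_smul, M.χ_mul, lev_mul_lev, map_mul, Module.End.mul_apply,
      smul_smul, mul_inv, ← mul_assoc, mul_inv_cancel₀ (χ_ne M _), one_mul]
  have hμ₀ : Φ (Pi.single i₀ 1) = μ := by
    have h := hΦ 1
    rwa [act_one, M.χ_one, lev_one, map_one, inv_one, one_smul, Module.End.one_apply] at h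
  have hSieg : ∀ z : Fin n → F, z ≠ 0 → Φ z ∈ eig (fun S => ρ (sieg S)) (qchar ψ z) := by
    intro z hz
    obtain ⟨C, rfl⟩ : ∃ C, act C (Pi.single i₀ 1) = z := ⟨_, hA ⟨z, hz⟩⟩
    rw [hΦ]
    exact Submodule.smul_mem _ _ (rho_sieg_lev ρ hμ C)
  have hMs : ∀ k : Fin n, Φ (Pi.single k 1) ∈ Ms ψ ρ k := fun k => hSieg _ (by simp)
  have hsl : ∀ (k : Fin n) (z : Fin n → F), z k = 1 →
      sl M ρ k (Φ (Pi.single k 1)) z = Φ z := by
    intro k z hz
    rw [sl, hAct _ _ (by simp), act_yel_slice k hz, smul_smul, inv_mul_cancel₀ (χ_ne M _),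
      one_smul]
  -- partial Fourier elements on vectors with another nonzero coordinate
  have hwel : ∀ (j k : Fin n) (z : Fin n → F), k ≠ j → z k ≠ 0 →
      lext Φ (M.ω (wel {j}) (dl z)) = ρ (wel {j}) (Φ z) := by
    intro j k z hkj hzk
    set B := sca k hzk
    let z' : Fin n → F := Function.update z k 1
    have hz' : z' k = 1 := by simp [z']
    have hB : act B z' = z := by
      rw [act_sca]; simp [z']
    have hz'0 : z' ≠ 0 := fun h => by simp [h] at hz'
    have hK : wel {j} ∈ Kset M ρ k := wel_mem_Kset M ρ k h2 hψ hrank hkj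
    obtain ⟨hs, hK'⟩ := hK _ (dl_mem_slice hz')
    have h1 : lext Φ (M.ω (wel {j}) (dl z')) = ρ (wel {j}) (Φ z') := by
      have h := hK' _ (hMs k)
      rw [lext_congr (φ' := Φ) (fun y hy => hsl k y (hs y hy)), lext_dl, hsl k z' hz'] at h
      exact h
    have hlev : ∀ f ∈ slice k, lext Φ (M.ω (lev B) f) = ρ (lev B) (lext Φ f) := by
      intro f hf
      conv_lhs => rw [← sum_dl f]
      rw [lext_apply Φ f, map_sum, map_sum, map_sum]
      refine Finset.sum_congr rfl fun y _ => ?_
      by_cases hy : f y = 0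
      · simp [hy]
      · have hy0 : y ≠ 0 := fun h => by simpa [h] using hf y hy
        rw [map_smul, map_smul, map_smul, M.levi, map_smul, lext_dl, hAct _ _ hy0]
    have e1 : dl z = (M.χ B)⁻¹ • M.ω (lev B) (dl z') := by
      rw [M.levi, hB, smul_smul, inv_mul_cancel₀ (χ_ne M _), one_smul]
    rw [e1, map_smul, map_smul, ← Module.End.mul_apply, ← map_mul, ← sca_wel hkj hzk, map_mul,
      Module.End.mul_apply, hlev _ hs, h1, ← Module.End.mul_apply, ← map_mul, sca_wel hkj hzk,
      map_mul, Module.End.mul_apply, hAct _ _ hz'0, hB, map_smul, smul_smul,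
      inv_mul_cancel₀ (χ_ne M _), one_smul]
  -- the defect
  let D : Fin n → F → V := fun j s =>
    ρ (wel {j}) (Φ (Pi.single j s)) - lext Φ (M.ω (wel {j}) (dl (Pi.single j s)))
  have hup : ∀ (j : Fin n) (x : Fin n → F) (φ : (Fin n → F) → V),
      lext φ (M.ω (wel {j}) (dl x)) = ∑ r, M.K j (x j) r • φ (Function.update x j r) := by
    intro j x φ
    simp only [M.fourier, map_sum, map_smul, lext_dl]
  have hrel : ∀ i j : Fin n, i ≠ j → ∀ s t : F, s ≠ 0 → t ≠ 0 →
      M.K j t 0 • D i s = M.K i s 0 • D j t := by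
    have main : ∀ i j : Fin n, i ≠ j → ∀ s t : F, s ≠ 0 →
        ρ (wel {i}) (ρ (wel {j}) (Φ (Function.update (Pi.single i s) j t))) =
          lext Φ (M.ω (wel {i}) (M.ω (wel {j}) (dl (Function.update (Pi.single i s) j t)))) +
            M.K j t 0 • D i s := by
      intro i j hij s t hs
      set x : Fin n → F := Function.update (Pi.single i s) j t with hx
      have hxi : x i = s := by simp [hx, hij]
      rw [← hwel j i x hij (by rw [hxi]; exact hs), hup]
      conv_rhs => rw [M.fourier j x, map_sum, map_sum]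
      rw [map_sum]
      have hx0 : Function.update x j (0 : F) = Pi.single i s := by
        funext k; by_cases hk : k = j
        · subst hk; simp [hij.symm]
        · simp [hx, hk]
      rw [← Finset.sum_erase_add _
          (fun r => ρ (wel {i}) (M.K j (x j) r • Φ (Function.update x j r)))
          (Finset.mem_univ (0 : F)),
        ← Finset.sum_erase_add _
          (fun r => lext Φ (M.ω (wel {i}) (M.K j (x j) r • dl (Function.update x j r))))
          (Finset.mem_univ (0 : F)),
        add_assoc]
      congr 1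
      · refine Finset.sum_congr rfl fun r hr => ?_
        have hr0 : r ≠ 0 := by simpa using hr
        rw [map_smul, map_smul, map_smul, hwel i j _ hij.symm (by simp [hr0])]
      · rw [hx0, map_smul, map_smul, map_smul, show x j = t by simp [hx], ← smul_add]
        simp only [D]
        rw [add_sub_cancel]
    intro i j hij s t hs ht
    have h1 := main i j hij s t hs
    have h2' := main j i hij.symm t s ht
    have hx : Function.update (Pi.single j t : Fin n → F) i s =
        Function.update (Pi.single i s : Fin n → F) j t := by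
      funext k; by_cases hk : k = i
      · subst hk; simp [hij]
      · by_cases hk' : k = j
        · subst hk'; simp [hk]
        · simp [hk, hk']
    rw [hx] at h2'
    rw [← Module.End.mul_apply, ← map_mul, wel_comm, map_mul, Module.End.mul_apply, h2',
      ← Module.End.mul_apply (M.ω (wel {j})), ← map_mul, wel_comm, map_mul,
      Module.End.mul_apply] at h1
    exact (add_left_cancel h1).symm
  let c : V := (M.K i₀ 1 0)⁻¹ • D i₀ 1
  have hc : ∀ (j : Fin n) (s : F), s ≠ 0 → D j s = M.K j s 0 • c := by
    intro j s hs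
    by_cases hj : j = i₀
    · subst hj
      haveI : Nontrivial (Fin n) := Fin.nontrivial_iff_two_le.mpr hn
      obtain ⟨i, hi⟩ := exists_ne j
      have a := hrel j i hi.symm s 1 hs one_ne_zero
      have b := hrel j i hi.symm 1 1 one_ne_zero one_ne_zero
      refine smul_right_injective V (M.K_ne i 1 0) ?_
      show M.K i 1 0 • D j s = M.K i 1 0 • (M.K j s 0 • ((M.K j 1 0)⁻¹ • D j 1))
      rw [smul_comm (M.K i 1 0), smul_comm (M.K i 1 0) (M.K j 1 0)⁻¹, b, smul_smul (M.K j 1 0)⁻¹,
        inv_mul_cancel₀ (M.K_ne j 1 0), one_smul, a]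
    · have a := hrel j i₀ hj s 1 hs one_ne_zero
      show D j s = M.K j s 0 • ((M.K i₀ 1 0)⁻¹ • D i₀ 1)
      rw [smul_comm, ← a, smul_smul, inv_mul_cancel₀ (M.K_ne i₀ 1 0), one_smul]
  have hR : ∀ a b : Sym n F, ρ (sieg (a + b)) = ρ (sieg a) * ρ (sieg b) := fun a b => by
    rw [sieg_add, map_mul]
  have hR0 : ρ (sieg (0 : Sym n F)) = 1 := by rw [sieg_zero, map_one]
  have hcfix : c ∈ eig (fun S => ρ (sieg S)) (1 : AddChar (Sym n F) ℂ) := by
    haveI : Fintype (Sym n F) := Fintype.ofFinite _
    refine mem_eig_of_subset hR hR0 {S | ∃ k t, S = rk1 t (Pi.single k 1)} _ ?_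
      (fun φ u hu hu' hφ => ?_)
    · rintro S ⟨k, t, rfl⟩
      haveI : Nontrivial (Fin n) := Fin.nontrivial_iff_two_le.mpr hn
      obtain ⟨j, hj⟩ := exists_ne k
      have hfix : ρ (sieg (rk1 t (Pi.single k 1))) (D j 1) = D j 1 := by
        have hcomm : sieg (rk1 t (Pi.single k 1)) * wel {j} =
            wel {j} * sieg (rk1 t (Pi.single k 1)) := sieg_wel_comm (by
          ext p r
          by_cases hp : p = j <;> simp [rk1, prj, Matrix.diagonal_mul, vecMulVec_apply, hp, hj])
        have hq : ∀ r : F, qchar ψ (Pi.single j r : Fin n → F) (rk1 t (Pi.single k 1)) = 1 := by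
          intro r; simp [qchar_apply, qv_rk1, single_dotProduct, hj.symm]
        show ρ (sieg _) (ρ (wel {j}) _ - _) = _
        rw [map_sub, ← Module.End.mul_apply, ← map_mul, hcomm, map_mul, Module.End.mul_apply,
          hSieg _ (by simp) _, hq, one_smul, hup, map_sum]
        congr 1
        rw [hup]
        refine Finset.sum_congr rfl fun r _ => ?_
        rw [map_smul]
        congr 1
        have e : Function.update (Pi.single j (1 : F)) j r = (Pi.single j r : Fin n → F) := by
          funext p; by_cases hp : p = j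
          · subst hp; simp
          · simp [hp]
        rw [e]
        by_cases hr : r = 0
        · simp [hr, Φ]
        · rw [hSieg _ (by simpa using hr) _, hq, one_smul]
      show ρ (sieg (rk1 t (Pi.single k 1))) c = (1 : AddChar (Sym n F) ℂ) _ • c
      rw [hc j 1 one_ne_zero, map_smul] at hfix
      rw [AddChar.one_apply, one_smul]
      exact smul_right_injective V (M.K_ne j 1 0) hfix
    · obtain ⟨c', x, hcx⟩ := hrank φ u hu hu'
      have hx : ∀ k, c' * x k = 0 := by
        intro k
        have h : c' * x k * x k = 0 := by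
          refine shift_inj hψ fun t => ?_
          have := hφ _ ⟨k, t, rfl⟩
          rw [hcx, qv_rk1, AddChar.one_apply] at this
          simp [single_dotProduct] at this
          rw [zero_mul, AddChar.map_zero_eq_one, show c' * x k * x k * t = c' * (t * x k * x k) by
            ring, this]
        rcases mul_eq_zero.mp h with h | h
        · exact h
        · rw [h, mul_zero]
      ext S
      rw [hcx, AddChar.one_apply]
      convert AddChar.map_zero_eq_one ψ
      simp only [qv, dotProduct, Finset.mul_sum, ← mul_assoc, hx, zero_mul, Finset.sum_const_zero]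
  -- the extended map
  let Φc : (Fin n → F) → V := fun z => if z = 0 then c else Φ z
  let T := lext Φc
  have hTne : ∀ z : Fin n → F, z ≠ 0 → T (dl z) = Φ z := fun z hz => by
    simp [T, lext_dl, Φc, hz]
  have hT0 : T (dl 0) = c := by simp [T, lext_dl, Φc]
  have hTsum : ∀ f, T f = lext Φ f + f 0 • c := by
    intro f
    have e : ∀ z, f z • Φc z = f z • Φ z + if z = 0 then f z • c else 0 := by
      intro z; by_cases hz : z = 0
      · subst hz; simp [Φc, Φ]
      · simp [Φc, hz]
    simp only [T, lext_apply, e, Finset.sum_add_distrib, Finset.sum_ite_eq', Finset.mem_univ,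
      if_true]
  have hTs : ∀ S z, T (M.ω (sieg S) (dl z)) = ρ (sieg S) (T (dl z)) := by
    intro S z
    rw [M.sieg, map_smul]
    by_cases hz : z = 0
    · subst hz; rw [hT0, hcfix S]; simp [qv]
    · rw [hTne z hz, hSieg z hz S, qchar_apply]
  have hTwne : ∀ (j : Fin n) (z : Fin n → F), z ≠ 0 →
      T (M.ω (wel {j}) (dl z)) = ρ (wel {j}) (T (dl z)) := by
    intro j z hz
    rw [hTne z hz, hTsum]
    by_cases hall : ∀ k, k ≠ j → z k = 0
    · have hzj : z = Pi.single j (z j) := single_eq_of hall
      have hs : z j ≠ 0 := fun h => hz (by rw [hzj, h, Pi.single_zero])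
      have h0 : M.ω (wel {j}) (dl z) 0 = M.K j (z j) 0 := by
        rw [M.fourier, Finset.sum_apply, Finset.sum_eq_single 0]
        · rw [Pi.smul_apply, show Function.update z j (0 : F) = 0 by
            funext k; by_cases hk : k = j
            · subst hk; simp
            · simp [hk, hall k hk], dl_self, smul_eq_mul, mul_one]
        · intro r _ hr
          rw [Pi.smul_apply, dl_ne (fun h => hr ?_), smul_zero]
          simpa using (congrFun h j).symm
        · simp
      rw [h0, ← hc j _ hs]
      simp only [D, ← hzj]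
      rw [add_sub_cancel]
    · push Not at hall
      obtain ⟨k, hk, hzk⟩ := hall
      have h0 : M.ω (wel {j}) (dl z) 0 = 0 := by
        rw [M.fourier, Finset.sum_apply]
        refine Finset.sum_eq_zero fun r _ => ?_
        rw [Pi.smul_apply, dl_ne (fun h => hzk ?_), smul_zero]
        simpa [hk] using (congrFun h k).symm
      rw [h0, zero_smul, add_zero, hwel j k z hk hzk]
  have hTw0 : ∀ j : Fin n, T (M.ω (wel {j}) (dl 0)) = ρ (wel {j}) (T (dl 0)) := by
    intro j
    set e : Fin n → F := Pi.single j 1 with he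
    have he0 : e ≠ 0 := by simp [he]
    obtain ⟨g, hg⟩ := wel_sq (F := F) j
    have h : T (M.ω (wel {j}) (M.ω (wel {j}) (dl e))) =
        ρ (wel {j}) (T (M.ω (wel {j}) (dl e))) := by
      rw [hTwne j e he0, ← Module.End.mul_apply, ← map_mul, hg, M.levi, map_smul,
        hTne _ (act_ne_zero g he0), hTne e he0, ← Module.End.mul_apply, ← map_mul, hg, hAct g e he0]
    conv at h => rw [M.fourier j e]; simp only [map_sum, map_smul]
    rw [← Finset.sum_erase_add _
        (fun r => M.K j (e j) r • T (M.ω (wel {j}) (dl (Function.update e j r))))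
        (Finset.mem_univ (0 : F)),
      ← Finset.sum_erase_add _
        (fun r => M.K j (e j) r • ρ (wel {j}) (T (dl (Function.update e j r))))
        (Finset.mem_univ (0 : F)),
      show Function.update e j (0 : F) = 0 by
        funext k; by_cases hk : k = j
        · subst hk; simp [he]
        · simp [he, hk]] at h
    rw [Finset.sum_congr rfl (fun r hr => by
      have hr0 : r ≠ 0 := by simpa using hr
      rw [hTwne j _ (fun h0 => hr0 (by simpa using congrFun h0 j))])] at h
    exact smul_right_injective V (M.K_ne j (e j) 0) (add_left_cancel h)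
  let K : Submonoid (symplecticGroup (Fin n) F) :=
    { carrier := {g | ∀ f, T (M.ω g f) = ρ g (T f)}
      one_mem' := fun f => by simp
      mul_mem' := fun {g h} hg hh f => by
        rw [map_mul, Module.End.mul_apply, hg, hh, map_mul, Module.End.mul_apply] }
  have hbasis : ∀ g, (∀ z, T (M.ω g (dl z)) = ρ g (T (dl z))) → g ∈ K := by
    intro g hg f
    conv_lhs => rw [← sum_dl f]
    conv_rhs => rw [← sum_dl f]
    simp only [map_sum, map_smul, hg]
  have hall := mem_of_generators (by omega) (K := K) (fun S => hbasis _ (hTs S))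
    (fun j => hbasis _ fun z => by
      by_cases hz : z = 0
      · subst hz; exact hTw0 j
      · exact hTwne j z hz)
  exact ⟨T, hall, by rw [hTne _ (by simp), hμ₀]⟩

end Cfsg.Agent.CrossChar56.RankOne
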