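import Cfsg.Agent.CrossChar56.RankOne.Hom
import Mathlib.RepresentationTheory.Subrepresentation

/-!
The two parts of a Weil representation are irreducible (helper56).
-/

set_option autoImplicit false
set_option linter.unusedSectionVars false

noncomputable section

namespace Cfsg.Agent.CrossChar56.RankOne

open Matrix SpBound

variable {F : Type*} [Field F] [Fintype F] {n : ℕ} {ψ : AddChar F ℂ}

/-- the functions of parity `s` as a subrepresentation -/
def part (M : Model (n := n) ψ) (s : ℂ) : Subrepresentation M.ω where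
  toSubmodule :=
    { carrier := {f | ∀ y, f (-y) = s * f y}
      zero_mem' := fun y => by simp
      add_mem' := fun {f g} hf hg y => by simp [hf y, hg y, mul_add]
      smul_mem' := fun c f hf y => by simp [hf y]; ring }
  apply_mem_toSubmodule g f hf y := by
    have h : (fun x => f (-x)) = s • f := funext hf
    have h1 := congrFun (M.parity g f) y
    rw [h, map_smul] at h1
    exact h1.symm

theorem mem_part {M : Model (n := n) ψ} {s : ℂ} {f : (Fin n → F) → ℂ} :
    f ∈ (part M s).toSubmodule ↔ ∀ y, f (-y) = s * f y := Iff.rfl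

/-- the standard vectors of a part -/
def bv (s : ℂ) (z : Fin n → F) : (Fin n → F) → ℂ := dl z + s • dl (-z)

theorem bv_apply (s : ℂ) (z y : Fin n → F) : bv s z y = dl z y + s * dl (-z) y := rfl

theorem dl_neg (z y : Fin n → F) : dl (-z) (-y) = dl z y := by
  by_cases h : y = z
  · subst h; rw [dl_self, dl_self]
  · rw [dl_ne h, dl_ne fun h' => h (neg_injective h')]

theorem bv_mem (M : Model (n := n) ψ) {s : ℂ} (hs : s * s = 1) (z : Fin n → F) :
    bv s z ∈ (part M s).toSubmodule := by
  intro y
  rw [bv_apply, bv_apply, dl_neg]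
  rw [show dl z (-y) = dl (-z) y by rw [← dl_neg z (-y), neg_neg], mul_add, ← mul_assoc, hs]
  ring

theorem finrank_part (M : Model (n := n) ψ) (h2 : (2 : F) ≠ 0) {s : ℂ} (hs : s * s = 1) :
    (Module.finrank ℂ (part M s).toSubmodule : ℂ) = ((Fintype.card F : ℂ) ^ n + s) / 2 := by
  classical
  let p : ((Fin n → F) → ℂ) →ₗ[ℂ] ((Fin n → F) → ℂ) :=
    (2 : ℂ)⁻¹ • (1 + s • Matrix.toLin' Weil.par)
  have hp : ∀ f y, p f y = (f y + s * f (-y)) / 2 := by
    intro f y
    have e : (Matrix.toLin' (Weil.par : Matrix (Fin n → F) (Fin n → F) ℂ) f) y = f (-y) := by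
      rw [Matrix.toLin'_apply, mulVec, dotProduct]
      simp [Weil.par]
    rw [Matrix.toLin'_apply] at e
    simp [p, e]
    ring
  have hproj : LinearMap.IsProj (part M s).toSubmodule p := by
    refine ⟨fun f y => ?_, fun f hf => funext fun y => ?_⟩
    · rw [hp, hp, neg_neg]
      linear_combination (-(f (-y)) / 2) * hs
    · rw [hp, hf y, ← mul_assoc, hs]; ring
  rw [← hproj.trace]
  simp only [p, map_smul, map_add, LinearMap.trace_one, Matrix.trace_toLin'_eq, Weil.trace_par h2,
    smul_eq_mul, mul_one]
  rw [Module.finrank_fintype_fun_eq_card, Fintype.card_fun, Fintype.card_fin]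
  push_cast
  ring

theorem qchar_inj (hψ : ψ.IsPrimitive) (h2 : (2 : F) ≠ 0) {x y : Fin n → F}
    (h : qchar ψ x = qchar ψ y) : x = y ∨ x = -y := by
  have hp : ∀ i j, x i * x j = y i * y j := by
    intro i j
    have : 2 * (x i * x j) = 2 * (y i * y j) := by
      refine shift_inj hψ fun c => ?_
      have := DFunLike.congr_fun h (rk2 c (Pi.single i 1) (Pi.single j 1))
      rw [qchar_apply, qchar_apply, qv_rk2, qv_rk2] at this
      simp [single_dotProduct] at this
      rw [show 2 * (x i * x j) * c = 2 * c * x i * x j by ring,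
        show 2 * (y i * y j) * c = 2 * c * y i * y j by ring]
      exact this
    exact mul_left_cancel₀ h2 this
  by_cases hx : x = 0
  · left
    subst hx
    funext i
    have := hp i i
    simp only [Pi.zero_apply, mul_zero] at this
    rw [Pi.zero_apply]
    exact (mul_self_eq_zero.mp this.symm).symm
  · obtain ⟨k, hk⟩ := Function.ne_iff.mp hx
    rcases mul_self_eq_mul_self_iff.mp (hp k k) with h' | h'
    · left
      funext i
      exact mul_left_cancel₀ hk (by rw [hp k i, h'])
    · right
      funext i
      refine mul_left_cancel₀ hk ?_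
      rw [hp k i, h', Pi.neg_apply]; ring

variable (M : Model (n := n) ψ)

theorem omega_sieg (S : Sym n F) (f : (Fin n → F) → ℂ) (y : Fin n → F) :
    M.ω (sieg S) f y = ψ (qv S y) * f y := by
  conv_lhs => rw [← sum_dl f]
  simp only [map_sum, map_smul, M.sieg, Finset.sum_apply, Pi.smul_apply, smul_eq_mul]
  rw [Finset.sum_eq_single y]
  · rw [dl_self]; ring
  · intro z _ hz; rw [dl_ne hz.symm]; ring
  · simp

theorem pr_omega [Fintype (Sym n F)] (φ : AddChar (Sym n F) ℂ) (f : (Fin n → F) → ℂ)
    (y : Fin n → F) [Decidable (qchar ψ y = φ)] :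
    pr (fun S => M.ω (sieg S)) φ f y = if qchar ψ y = φ then f y else 0 := by
  classical
  simp only [pr, LinearMap.smul_apply, LinearMap.sum_apply, Pi.smul_apply, Finset.sum_apply,
    omega_sieg, smul_eq_mul, ← qchar_apply]
  rw [← Finset.sum_congr rfl (fun S _ => mul_assoc (φ (-S)) (qchar ψ y S) (f y)), ← Finset.sum_mul]
  have e : ∑ S, φ (-S) * qchar ψ y S = ∑ S, (φ⁻¹ * qchar ψ y) S := by
    refine Finset.sum_congr rfl fun S _ => ?_
    rw [AddChar.mul_apply, AddChar.inv_apply]
  rw [e]
  by_cases h : qchar ψ y = φ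
  · rw [if_pos h, h, inv_mul_cancel]
    simp only [AddChar.one_apply, Finset.sum_const, Finset.card_univ, nsmul_eq_mul, mul_one]
    rw [← mul_assoc, inv_mul_cancel₀ (Nat.cast_ne_zero.mpr Fintype.card_ne_zero), one_mul]
  · rw [if_neg h, AddChar.sum_eq_zero_iff_ne_zero.mpr, zero_mul, mul_zero]
    intro h0
    exact h (inv_mul_eq_one.mp h0).symm

include M in
theorem part_irreducible (hn : 1 ≤ n) (h2 : (2 : F) ≠ 0) (hψ : ψ.IsPrimitive) {s : ℂ}
    (hs : s * s = 1) : (part M s).toRepresentation.IsIrreducible := by
  classical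
  haveI : Fintype (Sym n F) := Fintype.ofFinite _
  let i₀ : Fin n := ⟨0, hn⟩
  let e : Fin n → F := Pi.single i₀ 1
  have he : e ≠ 0 := by simp [e]
  have hne : ∀ z : Fin n → F, z ≠ 0 → -z ≠ z := by
    intro z hz h
    apply hz
    funext i
    have := congrFun h i
    rw [Pi.neg_apply] at this
    exact (mul_eq_zero.mp (show (2 : F) * z i = 0 by linear_combination -this)).resolve_left h2
  have hs0 : s ≠ 0 := fun h => by rw [h, mul_zero] at hs; exact zero_ne_one hs
  have main : ∀ U : Submodule ℂ ((Fin n → F) → ℂ), U ≤ (part M s).toSubmodule →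
      (∀ g, ∀ f ∈ U, M.ω g f ∈ U) → U ≠ ⊥ → (part M s).toSubmodule ≤ U := by
    intro U hUP hU hU0
    have hpr : ∀ f ∈ U, ∀ φ : AddChar (Sym n F) ℂ, pr (fun S => M.ω (sieg S)) φ f ∈ U := by
      intro f hf φ
      simp only [pr, LinearMap.smul_apply, LinearMap.sum_apply]
      exact U.smul_mem _ (U.sum_mem fun S _ => U.smul_mem _ (hU _ f hf))
    have hext : ∀ f ∈ U, ∀ z : Fin n → F, z ≠ 0 → f z ≠ 0 → bv s z ∈ U := by
      intro f hf z hz hfz
      have h1 : pr (fun S => M.ω (sieg S)) (qchar ψ z) f = f z • bv s z := by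
        funext y
        rw [pr_omega, Pi.smul_apply, bv_apply, smul_eq_mul]
        by_cases hy : y = z
        · subst hy
          rw [if_pos rfl, dl_self, dl_ne (hne y hz).symm, mul_zero, add_zero, mul_one]
        · by_cases hy' : y = -z
          · subst hy'
            rw [if_pos, hUP hf z, dl_self, dl_ne (hne z hz)]
            · ring
            · ext S; simp [qchar_apply, qv, mulVec_neg]
          · rw [if_neg (fun h => ?_), dl_ne hy, dl_ne hy']
            · ring
            · rcases qchar_inj hψ h2 h with h | h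
              · exact hy h
              · exact hy' h
      have := hpr f hf (qchar ψ z)
      rw [h1] at this
      exact (U.smul_mem_iff hfz).mp this
    obtain ⟨f, hf, hf0⟩ := Submodule.exists_mem_ne_zero_of_ne_bot hU0
    obtain ⟨z, hz, hzU⟩ : ∃ z : Fin n → F, z ≠ 0 ∧ bv s z ∈ U := by
      by_cases hex : ∃ z, z ≠ 0 ∧ f z ≠ 0
      · obtain ⟨z, hz, hfz⟩ := hex
        exact ⟨z, hz, hext f hf z hz hfz⟩
      · push Not at hex
        have h0 : f 0 ≠ 0 := fun h => hf0 (funext fun y => by
          by_cases hy : y = 0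
          · rw [hy]; exact h
          · exact hex y hy)
        refine ⟨e, he, hext _ (hU (wel {i₀}) f hf) e he ?_⟩
        have hfd : f = f 0 • dl 0 := funext fun y => by
          by_cases hy : y = 0
          · subst hy; simp [dl_self]
          · simp [dl_ne hy, hex y hy]
        rw [hfd, map_smul, M.fourier, Pi.smul_apply, Finset.sum_apply, Finset.sum_eq_single 1]
        · rw [Pi.smul_apply, show Function.update (0 : Fin n → F) i₀ (1 : F) = e from rfl, dl_self,
            smul_eq_mul, smul_eq_mul, mul_one]
          exact mul_ne_zero h0 (M.K_ne _ _ _)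
        · intro r _ hr
          rw [Pi.smul_apply, dl_ne (fun h => hr ?_), smul_zero]
          have := congrFun h i₀
          simpa [e] using this.symm
        · simp
    have hall : ∀ y : Fin n → F, y ≠ 0 → bv s y ∈ U := by
      intro y hy
      obtain ⟨A, hA⟩ := exists_act_eq i₀ hz
      obtain ⟨B, hB⟩ := exists_act_eq i₀ hy
      have hBA : act (B * A⁻¹) z = y := by rw [← hA, ← act_mul, inv_mul_cancel_right, hB]
      have := hU (lev (B * A⁻¹)) _ hzU
      rw [bv, map_add, map_smul, M.levi, M.levi,
        show act (B * A⁻¹) (-z) = -y by rw [← hBA, act, act, mulVec_neg], hBA, smul_comm,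
        ← smul_add] at this
      exact (U.smul_mem_iff (χ_ne M _)).mp this
    have h0mem : bv s (0 : Fin n → F) ∈ U := by
      by_cases hs1 : s = 1
      · have hb := hU (wel {i₀}) _ (hall e he)
        have hK : M.ω (wel {i₀}) (bv s e) 0 = 2 * M.ω (wel {i₀}) (dl e) 0 := by
          have h1 := congrFun (M.parity (wel {i₀}) (dl e)) 0
          rw [neg_zero, show (fun x => dl e (-x)) = dl (-e) from funext fun x => by
            rw [← dl_neg e (-x), neg_neg]] at h1
          rw [bv, map_add, map_smul, Pi.add_apply, Pi.smul_apply, h1, hs1, smul_eq_mul]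
          ring
        have hv : M.ω (wel {i₀}) (dl e) 0 = M.K i₀ 1 0 := by
          rw [M.fourier, Finset.sum_apply, Finset.sum_eq_single 0]
          · rw [Pi.smul_apply, show Function.update e i₀ (0 : F) = 0 by
              funext k; by_cases hk : k = i₀
              · subst hk; simp
              · simp [e, hk], dl_self, smul_eq_mul, mul_one, show e i₀ = 1 by simp [e]]
          · intro r _ hr
            rw [Pi.smul_apply, dl_ne (fun h => hr ?_), smul_zero]
            simpa using (congrFun h i₀).symm
          · simp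
        have h1 : pr (fun S => M.ω (sieg S)) (qchar ψ 0) (M.ω (wel {i₀}) (bv s e)) =
            M.K i₀ 1 0 • bv s 0 := by
          funext y
          rw [pr_omega, Pi.smul_apply, bv_apply, neg_zero, smul_eq_mul, hs1]
          by_cases hy : y = 0
          · subst hy; rw [if_pos rfl, ← hs1, hK, hv, dl_self, hs1]; ring
          · rw [if_neg (fun h => ?_), dl_ne hy]
            · ring
            · rcases qchar_inj hψ h2 h with h | h
              · exact hy h
              · exact hy (by simpa using h)
        have := hpr _ hb (qchar ψ 0)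
        rw [h1] at this
        exact (U.smul_mem_iff (M.K_ne _ _ _)).mp this
      · rcases mul_self_eq_one_iff.mp hs with h | h
        · exact absurd h hs1
        · have : bv s (0 : Fin n → F) = 0 := by
            funext y; rw [bv_apply, h, neg_zero, Pi.zero_apply]; ring
          rw [this]; exact U.zero_mem
    intro g hg
    have hg' : g = (2 : ℂ)⁻¹ • ∑ y, g y • bv s y := by
      funext x
      simp only [Pi.smul_apply, Finset.sum_apply, bv_apply, smul_eq_mul, mul_add,
        Finset.sum_add_distrib]
      rw [Finset.sum_eq_single x, Finset.sum_eq_single (-x)]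
      · rw [dl_self, neg_neg, dl_self, hg x]
        linear_combination (-(g x) / 2) * hs
      · intro y _ hy
        rw [dl_ne (fun h => hy (by rw [h, neg_neg]))]; ring
      · simp
      · intro y _ hy; rw [dl_ne hy.symm]; ring
      · simp
    rw [hg']
    refine U.smul_mem _ (U.sum_mem fun y _ => U.smul_mem _ ?_)
    by_cases hy : y = 0
    · rw [hy]; exact h0mem
    · exact hall y hy
  have hb : (⟨bv s e, bv_mem M hs e⟩ : (part M s).toSubmodule) ≠ 0 := fun h => by
    have h' := congrFun (congrArg Subtype.val h) e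
    rw [Submodule.coe_zero, Pi.zero_apply] at h'
    change bv s e e = 0 at h'
    rw [bv_apply, dl_self, dl_ne (hne e he).symm] at h'
    simp at h'
  haveI : Nontrivial (Subrepresentation (part M s).toRepresentation) := by
    refine ⟨⊥, ⊤, fun h => hb ?_⟩
    have h' : (⊥ : Submodule ℂ (part M s).toSubmodule) = ⊤ :=
      congrArg Subrepresentation.toSubmodule h
    exact (Submodule.mem_bot ℂ).mp (h' ▸ Submodule.mem_top)
  refine ⟨fun S => ?_⟩
  by_cases hS : S.toSubmodule = ⊥
  · exact Or.inl (Subrepresentation.toSubmodule_injective hS)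
  · refine Or.inr (Subrepresentation.toSubmodule_injective ?_)
    let U := S.toSubmodule.map (part M s).toSubmodule.subtype
    have hU : ∀ g, ∀ f ∈ U, M.ω g f ∈ U := by
      intro g f hf
      obtain ⟨u, hu, rfl⟩ := Submodule.mem_map.mp hf
      exact Submodule.mem_map.mpr ⟨_, S.apply_mem_toSubmodule g hu, rfl⟩
    have hU0 : U ≠ ⊥ := fun h => hS (by
      rw [Submodule.eq_bot_iff]
      intro u hu
      have : (u : (Fin n → F) → ℂ) ∈ U := Submodule.mem_map.mpr ⟨u, hu, rfl⟩
      rw [h, Submodule.mem_bot] at this
      exact Subtype.ext this)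
    show S.toSubmodule = ⊤
    rw [Submodule.eq_top_iff']
    intro u
    obtain ⟨v, hv, hvu⟩ := Submodule.mem_map.mp (main U (Submodule.map_subtype_le _ _) hU hU0 u.2)
    rwa [← Subtype.ext hvu]

end Cfsg.Agent.CrossChar56.RankOne
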