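import Cfsg.Agent.CrossChar56.HermOrbit
import Mathlib.FieldTheory.Finite.Basic
import Mathlib.Algebra.CharP.Two
import Mathlib.Algebra.Ring.GeomSum
import Mathlib.Tactic.LinearCombination
import Mathlib.Tactic.IntervalCases
import Mathlib.Tactic.Linarith

/-!
The orbit of a symmetric form of rank at least two (helper56).
-/

set_option autoImplicit false

namespace Cfsg.Agent.CrossChar56.RankOne

open HermOrbit

universe u

variable {F : Type*} [Field F] {V : Type u} [AddCommGroup V] [Module F V] {B : V → V → F}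

/-- there are two orthogonal anisotropic vectors -/
def TwoDiag (B : V → V → F) : Prop := ∃ x y, B x x ≠ 0 ∧ B y y ≠ 0 ∧ B y x = 0

variable [Fintype F] [DecidableEq F]

theorem layer_res [FiniteDimensional F V] (hB : IsHerm (RingHom.id F) B) {e : V}
    {H : Submodule F V} (hH : IsCompl (F ∙ e) H) (he : e ≠ 0) {x : V} (hx : B x x ≠ 0)
    (k : H ≃ₗ[F] LinearMap.ker (toDual hB x)) (φ : H →ₗ[F] F) (g₀ : H ≃ₗ[F] H) :
    ∃ B' ∈ orb F B, B' e e = B x x ∧ (∀ h : H, B' h e = φ h) ∧
      ∀ h h' : H, B' h h' = B (k (g₀ h)) (k (g₀ h')) + φ h * φ h' / B x x := by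
  classical
  have hx0 : x ≠ 0 := by rintro rfl; exact hx (hB.zero_left _)
  let E : (F ∙ e) →ₗ[F] V :=
    (LinearMap.toSpanSingleton F V x).comp (LinearEquiv.toSpanNonzeroSingleton F V e he).symm.toLinearMap
  let L : H →ₗ[F] V := (LinearMap.ker (toDual hB x)).subtype.comp (g₀.trans k).toLinearMap +
    (LinearMap.toSpanSingleton F V x).comp ((B x x)⁻¹ • φ)
  let g : V →ₗ[F] V := LinearMap.ofIsCompl hH E L
  have hge : g e = x := by
    rw [show g e = _ from LinearMap.ofIsCompl_left_apply hH (φ := E) (ψ := L)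
      ⟨e, Submodule.mem_span_singleton_self e⟩]
    have h2 : (LinearEquiv.toSpanNonzeroSingleton F V e he).symm
        ⟨e, Submodule.mem_span_singleton_self e⟩ = 1 := by
      rw [LinearEquiv.symm_apply_eq]; exact Subtype.ext (by simp)
    simp [E, h2]
  have hgh : ∀ h : H, g h = (k (g₀ h) : V) + ((B x x)⁻¹ * φ h) • x := fun h => by
    rw [show g h = _ from LinearMap.ofIsCompl_right_apply hH (φ := E) (ψ := L) h]
    simp [L]
  have hk : ∀ h : H, B (k h : V) x = 0 := fun h => (k h).2
  have hk' : ∀ h : H, B x (k h : V) = 0 := fun h => (hB.symm _ _).trans (hk h)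
  have hval : ∀ h : H, B (g h) x = φ h := fun h => by
    rw [hgh, hB.add, hB.smul, hk]; field_simp; ring
  have hsec : ∀ h h' : H, B (g h) (g h') = B (k (g₀ h)) (k (g₀ h')) + φ h * φ h' / B x x := by
    intro h h'
    rw [hgh, hgh, hB.add, hB.add_right, hB.add_right, hB.smul, hB.smul, hB.smul_right,
      hB.smul_right, hk, hk', RingHom.id_apply]
    field_simp
    ring
  have hinj : Function.Injective g := by
    rw [← LinearMap.ker_eq_bot, Submodule.eq_bot_iff]
    intro v hv
    obtain ⟨a, b, rfl, -⟩ := Submodule.existsUnique_add_of_isCompl hH v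
    obtain ⟨c, hc⟩ := Submodule.mem_span_singleton.mp a.2
    rw [← hc, LinearMap.mem_ker, map_add, map_smul, hge] at hv
    have h1 : c * B x x + φ b = 0 := by
      have := congrArg (fun z => B z x) hv
      simp only [hB.add, hB.smul, hval, hB.zero_left] at this
      exact this
    have h2 : (k (g₀ b) : V) = 0 := by
      have h3 : c + (B x x)⁻¹ * φ b = 0 := by
        rw [eq_neg_of_add_eq_zero_right h1]; field_simp; ring
      rw [hgh] at hv
      calc (k (g₀ b) : V) = c • x + ((k (g₀ b) : V) + ((B x x)⁻¹ * φ b) • x) -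
            (c + (B x x)⁻¹ * φ b) • x := by rw [add_smul]; abel
        _ = 0 := by rw [hv, h3, zero_smul, sub_zero]
    have hb : b = 0 := g₀.map_eq_zero_iff.mp (k.map_eq_zero_iff.mp (Subtype.ext h2))
    subst hb
    rw [map_zero, add_zero] at h1
    simp [← hc, (mul_eq_zero.mp h1).resolve_right hx]
  refine ⟨_, ⟨LinearEquiv.ofInjectiveEndo g hinj, rfl⟩, ?_, fun h => ?_, fun h h' => hsec h h'⟩
  · show B (g e) (g e) = _
    rw [hge]
  · show B (g h) (g e) = _
    rw [hge, hval]

theorem norms_card (h2 : (2 : F) ≠ 0) :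
    2 * (norms (RingHom.id F)).card = Fintype.card F - 1 := by
  simp only [norms, RingHom.id_apply]
  rw [mul_comm, ← Finset.card_univ, ← Finset.card_erase_of_mem (Finset.mem_univ (0 : F))]
  symm
  rw [Finset.card_eq_sum_card_image (fun a => a * a)]
  rw [Finset.sum_const_nat]
  intro b hb
  obtain ⟨t, ht, rfl⟩ := Finset.mem_image.mp hb
  have ht0 : t ≠ 0 := (Finset.mem_erase.mp ht).1
  have hne : t ≠ -t := fun h => ht0
    ((mul_eq_zero.mp (by linear_combination h : (2 : F) * t = 0)).resolve_left h2)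
  rw [show ({x ∈ Finset.univ.erase (0 : F) | x * x = t * t} : Finset F) = {t, -t} by
    ext x
    simp only [Finset.mem_filter, Finset.mem_erase, Finset.mem_univ, and_true,
      Finset.mem_insert, Finset.mem_singleton, mul_self_eq_mul_self_iff]
    constructor
    · exact fun h => h.2
    · rintro (rfl | rfl) <;> simp [ht0]]
  exact Finset.card_pair hne

theorem rep (h2 : (2 : F) ≠ 0) (s t : F) (hs : s ≠ 0) (ht : t ≠ 0) (r : F) :
    ∃ a b, a * a * s + b * b * t = r := by
  obtain ⟨a, b, hab⟩ := FiniteField.exists_root_sum_quadratic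
    (f := Polynomial.C s * Polynomial.X ^ 2 - Polynomial.C r)
    (g := Polynomial.C t * Polynomial.X ^ 2)
    (by rw [Polynomial.degree_sub_eq_left_of_degree_lt] <;>
          rw [Polynomial.degree_C_mul_X_pow 2 hs]
        · rfl
        · exact lt_of_le_of_lt Polynomial.degree_C_le (by decide))
    (Polynomial.degree_C_mul_X_pow 2 ht)
    (FiniteField.odd_card_of_char_ne_two fun h => h2 (by
      haveI : CharP F 2 := h ▸ ringChar.charP F
      exact CharTwo.two_eq_zero))
  exact ⟨a, b, by simp at hab; linear_combination hab⟩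

theorem cond (h2 : (2 : F) ≠ 0) : Cond (RingHom.id F) := by
  refine ⟨fun _ => rfl, ⟨1, by simpa [one_add_one_eq_two] using h2⟩,
    fun s t _ _ hs ht r _ => rep h2 s t hs ht r, Or.inr ?_⟩
  rw [norms_card h2]
  refine le_of_eq ?_
  rw [← Finset.card_univ, ← Finset.card_erase_of_mem (Finset.mem_univ (0 : F))]
  congr 1
  ext x
  simp [fixNZ]

theorem two_count (h2 : (2 : F) ≠ 0) [FiniteDimensional F V] (hB : IsHerm (RingHom.id F) B)
    (hd : TwoDiag B) {e : V} {H : Submodule F V} (hH : IsCompl (F ∙ e) H) (he : e ≠ 0) {n : ℕ}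
    (hn : Module.finrank F H = n) :
    (Fintype.card F - 1) * Fintype.card F ^ n *
        ((norms (RingHom.id F)).card * ∑ i ∈ Finset.range n, Fintype.card F ^ i) ≤
      Nat.card {B' : orb F B // B'.1 e e ≠ 0} := by
  classical
  haveI : Finite V := Module.finite_of_finite F
  obtain ⟨x, y, hx, hy, hyx⟩ := hd
  have hxy : B x y = 0 := (hB.symm _ _).trans hyx
  have hpair : ∀ t : {t : F // t ≠ 0}, ∃ u v, B u u = t.1 ∧ B v v ≠ 0 ∧ B v u = 0 := by
    intro t
    obtain ⟨a, b, hab⟩ := rep h2 _ _ hx hy t.1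
    refine ⟨a • x + b • y, (b * B y y) • x - (a * B x x) • y, ?_, ?_, ?_⟩
    · rw [diag_two hB hyx]; simpa using hab
    · rw [sub_eq_add_neg, ← neg_smul, diag_two hB hyx]
      simp only [RingHom.id_apply]
      rw [show b * B y y * (b * B y y) * B x x + -(a * B x x) * -(a * B x x) * B y y =
        (B x x * B y y) * (a * a * B x x + b * b * B y y) by ring, hab]
      exact mul_ne_zero (mul_ne_zero hx hy) t.2
    · rw [sub_eq_add_neg, ← neg_smul, hB.add, hB.smul, hB.smul, hB.add_right, hB.add_right,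
        hB.smul_right, hB.smul_right, hB.smul_right, hB.smul_right, hxy, hyx]
      simp only [RingHom.id_apply]
      ring
  choose u v hu hv hvu using hpair
  have hdim : ∀ t, Module.finrank F H = Module.finrank F (LinearMap.ker (toDual hB (u t))) := by
    intro t
    have h1 := finrank_compl he hH
    have hsurj : Function.Surjective (toDual hB (u t)) := fun r => ⟨(r / t.1) • u t, by
      show B ((r / t.1) • u t) (u t) = r
      rw [hB.smul, hu, div_mul_cancel₀ r t.2]⟩
    have h2 := LinearMap.finrank_range_add_finrank_ker (toDual hB (u t))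
    rw [LinearMap.range_eq_top.mpr hsurj, finrank_top, Module.finrank_self] at h2
    change 1 + Module.finrank F (LinearMap.ker (toDual hB (u t))) = _ at h2
    omega
  let k := fun t => LinearEquiv.ofFinrankEq (R := F) H _ (hdim t)
  let R : {t : F // t ≠ 0} → H → H → F := fun t a b => B (k t a) (k t b)
  have hR : ∀ t, IsHerm (RingHom.id F) (R t) := fun t =>
    ⟨fun a b c => by simp [R, hB.add], fun c a b => by simp [R, hB.smul],
      fun a b => hB.symm _ _⟩
  have hnum : ∀ t, (norms (RingHom.id F)).card * ∑ i ∈ Finset.range n, Fintype.card F ^ i ≤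
      Nat.card (orb F (R t)) := fun t =>
    HermOrbit.orbit_bound (cond h2) n H hn _ (hR t) ((k t).symm ⟨v t, hvu t⟩) (by
      simpa [R] using hv t)
  have hl : ∀ p : (t : {t : F // t ≠ 0}) × ((H →ₗ[F] F) × orb F (R t)),
      ∃ B' ∈ orb F B, B' e e = p.1.1 ∧ (∀ h : H, B' h e = p.2.1 h) ∧
        ∀ h h' : H, B' h h' = p.2.2.1 h h' + p.2.1 h * p.2.1 h' / p.1.1 := by
    rintro ⟨t, φ, C, g₀, rfl⟩
    obtain ⟨B', h1, h2', h3, h4⟩ := layer_res hB hH he (x := u t) (by rw [hu]; exact t.2) (k t) φ g₀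
    refine ⟨B', h1, by rw [h2', hu], h3, fun h h' => ?_⟩
    rw [h4, hu]
  choose B' hmem hee hrow hblock using hl
  let Φ : (t : {t : F // t ≠ 0}) × ((H →ₗ[F] F) × orb F (R t)) →
      {B' : orb F B // B'.1 e e ≠ 0} := fun p =>
    ⟨⟨B' p, hmem p⟩, by show B' p e e ≠ 0; rw [hee]; exact p.1.2⟩
  have hΦ : Function.Injective Φ := by
    rintro ⟨t, φ, C⟩ ⟨t', φ', C'⟩ h
    have h1 : B' ⟨t, φ, C⟩ = B' ⟨t', φ', C'⟩ := congrArg (fun z => z.1.1) h
    obtain rfl : t = t' := Subtype.ext (by
      have := congrFun (congrFun h1 e) e; rwa [hee, hee] at this)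
    obtain rfl : φ = φ' := LinearMap.ext fun z => by
      have := congrFun (congrFun h1 z) e; rwa [hrow, hrow] at this
    obtain rfl : C = C' := Subtype.ext (funext fun a => funext fun b => by
      have := congrFun (congrFun h1 a) b
      rw [hblock, hblock] at this
      exact add_right_cancel this)
    rfl
  have hle := Nat.card_le_card_of_injective Φ hΦ
  haveI : Fintype {t : F // t ≠ 0} := Fintype.ofFinite _
  haveI : Finite (H →ₗ[F] F) := Module.finite_of_finite F
  rw [Nat.card_sigma] at hle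
  refine le_trans ?_ hle
  calc (Fintype.card F - 1) * Fintype.card F ^ n *
        ((norms (RingHom.id F)).card * ∑ i ∈ Finset.range n, Fintype.card F ^ i)
      = ∑ _t : {t : F // t ≠ 0}, Fintype.card F ^ n *
          ((norms (RingHom.id F)).card * ∑ i ∈ Finset.range n, Fintype.card F ^ i) := by
        have hc : Fintype.card {t : F // t ≠ 0} = Fintype.card F - 1 := by
          rw [← Nat.card_eq_fintype_card (α := {t : F // t ≠ 0}), Nat.card_eq_fintype_card]
          simp [Fintype.card_subtype_compl]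
        rw [Finset.sum_const, Finset.card_univ, smul_eq_mul, hc, mul_assoc]
    _ ≤ _ := Finset.sum_le_sum fun t _ => by
        rw [Nat.card_prod, HermOrbit.card_dual, hn]
        exact Nat.mul_le_mul_left _ (hnum t)

theorem singular_two (h2 : (2 : F) ≠ 0) [FiniteDimensional F V]
    (hB : IsHerm (RingHom.id F) B) (hdim : 3 ≤ Module.finrank F V) (hd : TwoDiag B) :
    ∃ (z : V) (H₀ : Submodule F V), z ≠ 0 ∧ B z z = 0 ∧ IsCompl (F ∙ z) H₀ ∧
      ∃ x ∈ H₀, ∃ y ∈ H₀, B x x ≠ 0 ∧ B y y ≠ 0 ∧ B y x = 0 := by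
  obtain ⟨x, y, hx, hy, hyx⟩ := hd
  have hxy : B x y = 0 := (hB.symm _ _).trans hyx
  obtain ⟨w, hw0, hwx, hwy⟩ : ∃ w, w ≠ 0 ∧ B w x = 0 ∧ B w y = 0 := by
    let f := (toDual hB x).prod (toDual hB y)
    have h2 := LinearMap.finrank_range_add_finrank_ker f
    have h4 : Module.finrank F (LinearMap.range f) ≤ 2 := by
      simpa [Module.finrank_prod] using Submodule.finrank_le (LinearMap.range f)
    have h5 : LinearMap.ker f ≠ ⊥ := by
      intro h; rw [h, finrank_bot] at h2; omega
    obtain ⟨w, hw, hw0⟩ := Submodule.exists_mem_ne_zero_of_ne_bot h5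
    simp only [f, LinearMap.mem_ker, LinearMap.prod_apply, Function.prod_apply, Prod.mk_eq_zero] at hw
    exact ⟨w, hw0, hw.1, hw.2⟩
  have hnot : ∀ c : V, c ∈ F ∙ x ⊔ F ∙ y → c + w ∉ F ∙ x ⊔ F ∙ y := by
    intro c hc hcw
    obtain ⟨a₁, ha₁, b₁, hb₁, hab⟩ := Submodule.mem_sup.mp (by simpa using Submodule.sub_mem _ hcw hc :
      w ∈ F ∙ x ⊔ F ∙ y)
    obtain ⟨a, rfl⟩ := Submodule.mem_span_singleton.mp ha₁
    obtain ⟨b, rfl⟩ := Submodule.mem_span_singleton.mp hb₁
    subst hab
    rw [hB.add, hB.smul, hB.smul] at hwx hwy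
    rw [hyx, mul_zero, add_zero, mul_eq_zero] at hwx
    rw [hxy, mul_zero, zero_add, mul_eq_zero] at hwy
    exact hw0 (by simp [hwx.resolve_right hx, hwy.resolve_right hy])
  obtain ⟨z, hz, hzP⟩ : ∃ z, B z z = 0 ∧ z ∉ F ∙ x ⊔ F ∙ y := by
    by_cases hww : B w w = 0
    · exact ⟨w, hww, by simpa using hnot 0 (Submodule.zero_mem _)⟩
    obtain ⟨a, b, hab⟩ := rep h2 _ _ hx hy (-B w w)
    refine ⟨(a • x + b • y) + w, ?_, hnot _ (Submodule.add_mem_sup
      (Submodule.smul_mem _ _ (Submodule.mem_span_singleton_self x))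
      (Submodule.smul_mem _ _ (Submodule.mem_span_singleton_self y)))⟩
    have hvw : B w (a • x + b • y) = 0 := by
      rw [hB.add_right, hB.smul_right, hB.smul_right, hwx, hwy]; ring
    have := diag_two hB hvw 1 1
    simp only [one_smul, RingHom.id_apply, one_mul] at this
    rw [this, diag_two hB hyx]
    simp only [RingHom.id_apply]
    rw [hab]; ring
  have hz0 : z ≠ 0 := fun h => hzP (h ▸ Submodule.zero_mem _)
  obtain ⟨f, hf, hf'⟩ := Submodule.exists_dual_map_eq_bot_of_notMem hzP inferInstance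
  have hker : ∀ c ∈ F ∙ x ⊔ F ∙ y, f c = 0 := fun c hc => by
    simpa [hf'] using Submodule.mem_map_of_mem (f := f) hc
  refine ⟨z, LinearMap.ker f, hz0, hz, ?_, x,
    hker _ (Submodule.mem_sup_left (Submodule.mem_span_singleton_self x)), y,
    hker _ (Submodule.mem_sup_right (Submodule.mem_span_singleton_self y)), hx, hy, hyx⟩
  constructor
  · rw [Submodule.disjoint_def]
    intro v hv hv'
    obtain ⟨a, rfl⟩ := Submodule.mem_span_singleton.mp hv
    simp [hf] at hv'
    simp [hv']
  · rw [codisjoint_iff, Submodule.eq_top_iff']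
    intro v
    exact Submodule.mem_sup.mpr ⟨(f v / f z) • z, Submodule.smul_mem _ _
      (Submodule.mem_span_singleton_self z), v - (f v / f z) • z, by
        simp [div_mul_cancel₀ _ hf], by abel⟩

theorem layer_sum (q N : ℕ) (hN : 2 * N = q - 1) (hq : 1 ≤ q) (n : ℕ) :
    ((q : ℤ) ^ n - 1) * ((q : ℤ) ^ n - q) + 2 * ((q : ℤ) + 1) *
        ((q - 1) * q ^ n * (N * ∑ i ∈ Finset.range n, q ^ i) : ℕ) =
      ((q : ℤ) ^ (n + 1) - 1) * ((q : ℤ) ^ (n + 1) - q) := by
  have hN' : (2 : ℤ) * N = (q : ℤ) - 1 := by omega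
  have hs := mul_geom_sum (q : ℤ) n
  push_cast [hq]
  rw [pow_succ]
  linear_combination ((q : ℤ) + 1) * ((q : ℤ) - 1) * (q : ℤ) ^ n * hs +
    ((q : ℤ) + 1) * ((q : ℤ) - 1) * (q : ℤ) ^ n * (∑ i ∈ Finset.range n, (q : ℤ) ^ i) * hN'

theorem rank_two_bound (h2 : (2 : F) ≠ 0) :
    ∀ (n : ℕ) (V : Type u) [AddCommGroup V] [Module F V] [FiniteDimensional F V],
      Module.finrank F V = n → ∀ (B : V → V → F), IsHerm (RingHom.id F) B → TwoDiag B →
      ((Fintype.card F : ℤ) ^ n - 1) * ((Fintype.card F : ℤ) ^ n - Fintype.card F) ≤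
        2 * ((Fintype.card F : ℤ) + 1) * (Nat.card (orb F B) : ℤ) := by
  intro n
  induction n with
  | zero => intros; simp
  | succ n ih =>
    intro V _ _ _ hn B hB hd
    classical
    haveI : Finite V := Module.finite_of_finite F
    obtain ⟨x, y, hx, hy, hyx⟩ := hd
    have hx0 : x ≠ 0 := by rintro rfl; exact hx (hB.zero_left _)
    obtain ⟨H, hH⟩ := exists_compl_line (F := F) x
    have hHn : Module.finrank F H = n := by have := finrank_compl hx0 hH; omega
    have hsplit : (Nat.card (orb F B) : ℤ) = Nat.card {B' : orb F B // B'.1 x x ≠ 0} +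
        Nat.card {B' : orb F B // B'.1 x x = 0} := by
      rw [← Nat.cast_add, Nat.cast_inj,
        ← Nat.card_congr (Equiv.sumCompl (fun B' : orb F B => B'.1 x x = 0)), Nat.card_sum, add_comm]
    have h1 := two_count h2 hB ⟨x, y, hx, hy, hyx⟩ hH hx0 hHn
    have e := layer_sum (Fintype.card F) _ (norms_card h2) Fintype.card_pos n
    have h3 : ((Fintype.card F : ℤ) ^ n - 1) * ((Fintype.card F : ℤ) ^ n - Fintype.card F) ≤
        2 * ((Fintype.card F : ℤ) + 1) *
          (Nat.card {B' : orb F B // B'.1 x x = 0} : ℤ) := by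
      by_cases hn2 : n < 2
      · interval_cases n <;> simp <;> positivity
      obtain ⟨z, H₀, hz, hzz, hH₀, x', hx', y', hy', hxx, hyy, hyx'⟩ :=
        singular_two h2 hB (by omega) ⟨x, y, hx, hy, hyx⟩
      have hk : Module.finrank F H = Module.finrank F H₀ := by
        have := finrank_compl hz hH₀; omega
      let k : H ≃ₗ[F] H₀ := LinearEquiv.ofFinrankEq _ _ hk
      have hB' : IsHerm (RingHom.id F) (fun a b : H => B (k a) (k b)) :=
        ⟨fun a b c => by simp [hB.add], fun c a b => by simp [hB.smul],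
          fun a b => hB.symm (k a) (k b)⟩
      refine (ih H hHn _ hB' ⟨k.symm ⟨x', hx'⟩, k.symm ⟨y', hy'⟩, by simpa using hxx,
        by simpa using hyy, by simpa using hyx'⟩).trans ?_
      exact mul_le_mul_of_nonneg_left (Nat.cast_le.mpr (layer_two_count hB hH hx0 hH₀ hz hzz k))
        (by positivity)
    rw [hsplit, ← e]
    have h4 : 2 * ((Fintype.card F : ℤ) + 1) *
        (((Fintype.card F - 1) * Fintype.card F ^ n *
          ((norms (RingHom.id F)).card * ∑ i ∈ Finset.range n, Fintype.card F ^ i) : ℕ) : ℤ) ≤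
        2 * ((Fintype.card F : ℤ) + 1) * (Nat.card {B' : orb F B // B'.1 x x ≠ 0} : ℤ) :=
      mul_le_mul_of_nonneg_left (Nat.cast_le.mpr h1) (by positivity)
    linarith

end Cfsg.Agent.CrossChar56.RankOne
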