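import Cfsg.Agent.CrossChar56.RankOne.Omega
import Cfsg.Agent.CrossChar56.RankOne.Orbit
import Cfsg.Agent.CrossChar56.RankOne.Eigen
import Mathlib.Analysis.Fourier.FiniteAbelian.PontryaginDuality

/-!
Characters of symmetric matrices occurring in a representation: either the rank is at most one or
the degree is large (helper56).
-/

set_option autoImplicit false
set_option linter.unusedSectionVars false

noncomputable section

namespace Cfsg.Agent.CrossChar56.RankOne

open Matrix SpBound

theorem addChar_map_sum {A : Type*} [AddCommMonoid A] {ι : Type*} (φ : AddChar A ℂ)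
    (s : Finset ι) (f : ι → A) : φ (∑ i ∈ s, f i) = ∏ i ∈ s, φ (f i) := by
  classical
  induction s using Finset.induction with
  | empty => simp
  | insert a s ha ih => rw [Finset.sum_insert ha, Finset.prod_insert ha, AddChar.map_add_eq_mul, ih]

variable {F : Type*} [Field F] [Fintype F] {n : ℕ}

theorem rk2_add_left (x y z : Fin n → F) (c : F) : rk2 c (x + y) z = rk2 c x z + rk2 c y z := by
  apply Subtype.ext
  show c • (vecMulVec (x + y) z + vecMulVec z (x + y)) =
    c • (vecMulVec x z + vecMulVec z x) + c • (vecMulVec y z + vecMulVec z y)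
  rw [add_vecMulVec, vecMulVec_add, ← smul_add]
  congr 1
  abel

theorem rk2_smul_left (x y : Fin n → F) (a c : F) : rk2 c (a • x) y = rk2 (a * c) x y := by
  apply Subtype.ext
  show c • (vecMulVec (a • x) y + vecMulVec y (a • x)) =
    (a * c) • (vecMulVec x y + vecMulVec y x)
  rw [smul_vecMulVec, vecMulVec_smul, ← smul_add, smul_smul, mul_comm]

theorem rk2_symm (x y : Fin n → F) (c : F) : rk2 c x y = rk2 c y x := by
  apply Subtype.ext
  show c • (vecMulVec x y + vecMulVec y x) = c • (vecMulVec y x + vecMulVec x y)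
  rw [add_comm]

theorem cong_rk2 (g : Matrix (Fin n) (Fin n) F) (x y : Fin n → F) (c : F) :
    cong g (rk2 c x y) = rk2 c (g *ᵥ x) (g *ᵥ y) := by
  apply Subtype.ext
  show g * (c • (vecMulVec x y + vecMulVec y x)) * gᵀ = _
  rw [Matrix.mul_smul, Matrix.smul_mul, mul_add, add_mul, conj_vecMulVec, conj_vecMulVec]
  rfl

theorem sum_rk2 (h2 : (2 : F) ≠ 0) (S : Sym n F) :
    ∑ i, ∑ j, rk2 (S.1 i j / 2) (Pi.single i 1) (Pi.single j 1) = S := by
  have hS : ∀ a b, S.1 b a = S.1 a b := fun a b => congrFun (congrFun S.2 a) b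
  apply Subtype.ext
  simp only [AddSubgroup.val_finset_sum]
  ext a b
  simp only [rk2, Matrix.sum_apply, Matrix.smul_apply, Matrix.add_apply, vecMulVec_apply,
    smul_eq_mul, mul_add, Finset.sum_add_distrib]
  rw [Finset.sum_eq_single a, Finset.sum_eq_single b, Finset.sum_eq_single b,
    Finset.sum_eq_single a]
  · simp only [Pi.single_eq_same, mul_one, hS a b]
    field_simp
    ring
  all_goals first
    | (intro c _ hc; simp [Ne.symm hc, Pi.single_eq_of_ne hc.symm])
    | simp

/-- the form attached to a character -/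
def form (θ : AddChar F ℂ → F) (φ : AddChar (Sym n F) ℂ) (x y : Fin n → F) : F :=
  θ (pairChar φ x y)

variable {ψ : AddChar F ℂ} (hψ : ψ.IsPrimitive) {θ : AddChar F ℂ → F}
  (hθ : ∀ (φ : AddChar F ℂ) (c : F), φ c = ψ (θ φ * c))

include hθ in
theorem form_spec (φ : AddChar (Sym n F) ℂ) (x y : Fin n → F) (c : F) :
    φ (rk2 c x y) = ψ (form θ φ x y * c) := hθ (pairChar φ x y) c

include hψ hθ in
theorem form_isHerm (φ : AddChar (Sym n F) ℂ) :
    HermOrbit.IsHerm (RingHom.id F) (form θ φ) := by
  refine ⟨fun x y z => ?_, fun a x y => ?_, fun x y => ?_⟩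
  · refine shift_inj hψ fun c => ?_
    rw [add_mul, AddChar.map_add_eq_mul, ← form_spec hθ, ← form_spec hθ, ← form_spec hθ,
      rk2_add_left, AddChar.map_add_eq_mul]
  · refine shift_inj hψ fun c => ?_
    rw [← form_spec hθ, rk2_smul_left, form_spec hθ]
    congr 1; ring
  · refine shift_inj hψ fun c => ?_
    rw [RingHom.id_apply, ← form_spec hθ, rk2_symm, form_spec hθ]

include hψ hθ in
theorem not_twoDiag (h2 : (2 : F) ≠ 0) (φ : AddChar (Sym n F) ℂ)
    (h : ¬ TwoDiag (form θ φ)) : ∃ (c : F) (x : Fin n → F), ∀ S, φ S = ψ (c * qv S x) := by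
  classical
  have hB := form_isHerm hψ hθ φ
  set B := form θ φ with hBdef
  have hexp : ∀ S, φ S = ψ (∑ i, ∑ j, B (Pi.single i 1) (Pi.single j 1) * (S.1 i j / 2)) := by
    intro S
    conv_lhs => rw [← sum_rk2 h2 S]
    rw [addChar_map_sum, addChar_map_sum]
    refine Finset.prod_congr rfl fun i _ => ?_
    rw [addChar_map_sum, addChar_map_sum]
    exact Finset.prod_congr rfl fun j _ => form_spec hθ φ _ _ _
  by_cases hd : ∀ x, B x x = 0
  · have hz : ∀ x y, B x y = 0 := fun x y => by
      by_contra hxy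
      obtain ⟨z, hz⟩ := HermOrbit.exists_diag_ne hB (cond h2) hxy
      exact hz (hd z)
    refine ⟨0, 0, fun S => ?_⟩
    simp [hexp, hz, qv]
  push Not at hd
  obtain ⟨x₀, hx₀⟩ := hd
  set a : (Fin n → F) → F := fun u => B u x₀
  have hperp : ∀ y, B y x₀ = 0 → B y y = 0 := by
    intro y hy
    by_contra hyy
    exact h ⟨x₀, y, hx₀, hyy, hy⟩
  have key : ∀ u v, B u v = a u * a v / B x₀ x₀ := by
    intro u v
    have hp : ∀ w, B (w - (a w / B x₀ x₀) • x₀) x₀ = 0 := fun w => by
      have e : B (w - (a w / B x₀ x₀) • x₀) x₀ + a w / B x₀ x₀ * B x₀ x₀ = a w := by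
        rw [← hB.smul, ← hB.add, sub_add_cancel]
      rw [div_mul_cancel₀ _ hx₀] at e
      exact add_eq_right.mp e
    set u' := u - (a u / B x₀ x₀) • x₀ with hu'
    set v' := v - (a v / B x₀ x₀) • x₀ with hv'
    have h0 : B u' v' = 0 := by
      have h1 := hperp u' (hp u)
      have h3 := hperp v' (hp v)
      have h4 := hperp (u' + v') (by rw [hB.add, hp u, hp v, add_zero])
      rw [hB.add, hB.add_right, hB.add_right, h1, h3, hB.symm u' v', RingHom.id_apply, add_zero,
        zero_add] at h4
      exact (mul_eq_zero.mp (show (2 : F) * B u' v' = 0 by linear_combination h4)).resolve_left h2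
    have hu : u = u' + (a u / B x₀ x₀) • x₀ := by rw [hu', sub_add_cancel]
    have hv : v = v' + (a v / B x₀ x₀) • x₀ := by rw [hv', sub_add_cancel]
    conv_lhs => rw [hu, hv]
    have hv0 : B x₀ v' = 0 := by rw [hB.symm v' x₀, RingHom.id_apply]; exact hp v
    rw [hB.add, hB.add_right, hB.add_right, hB.smul, hB.smul, hB.smul_right, hB.smul_right, h0,
      show B u' x₀ = 0 from hp u, hv0, RingHom.id_apply]
    field_simp
    ring
  refine ⟨(2 * B x₀ x₀)⁻¹, fun i => a (Pi.single i 1), fun S => ?_⟩
  rw [hexp]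
  congr 1
  simp only [qv, dotProduct, mulVec, Finset.mul_sum]
  refine Finset.sum_congr rfl fun i _ => Finset.sum_congr rfl fun j _ => ?_
  rw [key]
  field_simp

include hψ hθ in
/-- the rank dichotomy -/
theorem dichotomy (h2 : (2 : F) ≠ 0) {V : Type*} [AddCommGroup V] [Module ℂ V]
    [FiniteDimensional ℂ V] (ρ : Representation ℂ (symplecticGroup (Fin n) F) V)
    {φ : AddChar (Sym n F) ℂ} {v : V} (hv : v ≠ 0) (hφ : v ∈ eig (fun S => ρ (sieg S)) φ) :
    ((Fintype.card F : ℤ) ^ n - 1) * ((Fintype.card F : ℤ) ^ n - Fintype.card F) ≤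
        2 * ((Fintype.card F : ℤ) + 1) * (Module.finrank ℂ V : ℤ) ∨
      ∃ (c : F) (x : Fin n → F), ∀ S, φ S = ψ (c * qv S x) := by
  classical
  by_cases h : TwoDiag (form θ φ)
  swap
  · exact Or.inr (not_twoDiag hψ hθ h2 φ h)
  left
  haveI : Fintype (Sym n F) := Fintype.ofFinite _
  refine (rank_two_bound h2 n (Fin n → F) (Module.finrank_fin_fun F) _ (form_isHerm hψ hθ φ) h).trans
    (mul_le_mul_of_nonneg_left (Nat.cast_le.mpr ?_) (by positivity))
  have key : ∀ g : (Fin n → F) ≃ₗ[F] (Fin n → F), ∃ φ' : AddChar (Sym n F) ℂ,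
      eig (fun S => ρ (sieg S)) φ' ≠ ⊥ ∧
      form θ φ' = fun x y => form θ φ (g x) (g y) := by
    intro g
    let A : GL (Fin n) F :=
      ⟨LinearMap.toMatrix' g.toLinearMap, LinearMap.toMatrix' g.symm.toLinearMap,
        by rw [← LinearMap.toMatrix'_comp]; simp,
        by rw [← LinearMap.toMatrix'_comp]; simp⟩
    let c : Sym n F →+ Sym n F :=
      AddMonoidHom.mk' (cong (A : Matrix (Fin n) (Fin n) F))
        (fun a b => Subtype.ext (by simp [cong, Matrix.mul_add, Matrix.add_mul]))
    refine ⟨φ.compAddMonoidHom c, ?_, ?_⟩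
    · rw [Submodule.ne_bot_iff]
      refine ⟨ρ (lev A)⁻¹ v, fun S => ?_, fun h0 => hv ?_⟩
      · show ρ (sieg S) _ = φ (cong (A : Matrix (Fin n) (Fin n) F) S) • _
        rw [← Module.End.mul_apply, ← map_mul,
          show sieg S * (lev A)⁻¹ =
            (lev A)⁻¹ * sieg (cong (A : Matrix (Fin n) (Fin n) F) S) by
            rw [eq_inv_mul_iff_mul_eq, ← mul_assoc, lev_mul, mul_inv_cancel_right],
          map_mul, Module.End.mul_apply, hφ _, map_smul]
      · have := congrArg (ρ (lev A)) h0
        rwa [← Module.End.mul_apply, ← map_mul, mul_inv_cancel, map_one, map_zero,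
          Module.End.one_apply] at this
    · funext x y
      refine shift_inj hψ fun t => ?_
      rw [← form_spec hθ, ← form_spec hθ]
      show φ (cong _ _) = _
      rw [cong_rk2]
      simp [A, LinearMap.toMatrix'_mulVec]
  choose φ' hne hform using key
  haveI : Finite ((Fin n → F) ≃ₗ[F] (Fin n → F)) :=
    Finite.of_injective (fun g => (g : (Fin n → F) → Fin n → F)) DFunLike.coe_injective
  haveI : Finite (HermOrbit.orb F (form θ φ)) := Set.Finite.to_subtype (Set.finite_range _)
  choose g hg using fun e : HermOrbit.orb F (form θ φ) => e.2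
  haveI : Fintype (HermOrbit.orb F (form θ φ)) := Fintype.ofFinite _
  have hinj : Function.Injective fun e => φ' (g e) := by
    intro a b hab
    apply Subtype.ext
    rw [← hg a, ← hg b]
    show (fun x y => form θ φ (g a x) (g a y)) = fun x y => form θ φ (g b x) (g b y)
    rw [← hform, ← hform]
    exact congrArg (form θ) hab
  have hle := card_le_finrank (R := fun S => ρ (sieg S)) (fun a b => by rw [sieg_add, map_mul])
    (by rw [sieg_zero, map_one]) (Finset.univ.image fun e => φ' (g e)) (by
      intro χ hχ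
      obtain ⟨e, -, rfl⟩ := Finset.mem_image.mp hχ
      exact hne _)
  rwa [Finset.card_image_of_injective _ hinj, Finset.card_univ, ← Nat.card_eq_fintype_card] at hle

end Cfsg.Agent.CrossChar56.RankOne
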