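import Cfsg.Agent.CrossChar56.RankOne.Irred
import Cfsg.Agent.CrossChar56.RankOne.SymChar
import Cfsg.Agent.CrossChar56.SpBound
import Cfsg.Agent.Lib.CharCore.Basic
import Mathlib.NumberTheory.LegendreSymbol.QuadraticChar.Basic

/-!
The small degree characters of `Sp(2n, q)`, `q` odd (helper56).
-/

set_option autoImplicit false
set_option linter.unusedSectionVars false

noncomputable section

namespace Cfsg.Agent.CrossChar56.RankOne

open Matrix SpBound

variable {F : Type*} [Field F] [Fintype F] {n : ℕ}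

/-- the character of a part of a model -/
def partChar {ψ : AddChar F ℂ} (M : Model (n := n) ψ) (s : ℂ) :
    symplecticGroup (Fin n) F → ℂ := (part M s).toRepresentation.character

theorem partChar_one {ψ : AddChar F ℂ} (M : Model (n := n) ψ) (h2 : (2 : F) ≠ 0) {s : ℂ}
    (hs : s * s = 1) : partChar M s 1 = ((Fintype.card F : ℂ) ^ n + s) / 2 := by
  rw [partChar, Representation.char_one, finrank_part M h2 hs]

theorem equiv_of_intertwiner {G V W : Type*} [Group G] [AddCommGroup V] [Module ℂ V]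
    [AddCommGroup W] [Module ℂ W] (σ : Representation ℂ G W) (hσ : σ.IsIrreducible)
    (ρ : Representation ℂ G V) (hρ : ρ.IsIrreducible) (T : W →ₗ[ℂ] V)
    (hT : ∀ g w, T (σ g w) = ρ g (T w)) (h0 : T ≠ 0) : ρ.character = σ.character := by
  haveI := hσ
  haveI := hρ
  let Kr : Subrepresentation σ := ⟨LinearMap.ker T, fun g v hv => by
    rw [LinearMap.mem_ker] at hv ⊢; rw [hT, hv, map_zero]⟩
  let Rg : Subrepresentation ρ := ⟨LinearMap.range T, fun g v hv => by
    obtain ⟨w, rfl⟩ := hv; exact ⟨σ g w, hT g w⟩⟩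
  have hinj : Function.Injective T := by
    rw [← LinearMap.ker_eq_bot]
    rcases eq_bot_or_eq_top Kr with h | h
    · exact congrArg Subrepresentation.toSubmodule h
    · exfalso
      apply h0
      ext w
      have : w ∈ LinearMap.ker T := by
        rw [show LinearMap.ker T = ⊤ from congrArg Subrepresentation.toSubmodule h]
        trivial
      simpa using this
  have hsurj : Function.Surjective T := by
    rw [← LinearMap.range_eq_top]
    rcases eq_bot_or_eq_top Rg with h | h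
    · exfalso
      apply h0
      ext w
      have : T w ∈ LinearMap.range T := LinearMap.mem_range_self T w
      rw [show LinearMap.range T = ⊥ from congrArg Subrepresentation.toSubmodule h] at this
      simpa using this
    · exact congrArg Subrepresentation.toSubmodule h
  let e : W ≃ₗ[ℂ] V := LinearEquiv.ofBijective T ⟨hinj, hsurj⟩
  funext g
  have : ρ g = e.conj (σ g) := by
    apply LinearMap.ext
    intro v
    obtain ⟨w, rfl⟩ := hsurj v
    have hw : e.symm (T w) = w := e.symm_apply_apply w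
    rw [LinearEquiv.conj_apply_apply, hw]
    exact (hT g w).symm
  show LinearMap.trace ℂ V (ρ g) = LinearMap.trace ℂ W (σ g)
  rw [this, LinearMap.trace_conj']

theorem eq_char_of_hom {ψ : AddChar F ℂ} (M : Model (n := n) ψ) (hn : 1 ≤ n) (h2 : (2 : F) ≠ 0)
    (hψ : ψ.IsPrimitive) {d : ℕ}
    (ρ : Representation ℂ (symplecticGroup (Fin n) F) (Fin d → ℂ)) (hρ : ρ.IsIrreducible)
    (T : ((Fin n → F) → ℂ) →ₗ[ℂ] (Fin d → ℂ)) (hT : ∀ g f, T (M.ω g f) = ρ g (T f))
    (h0 : T ≠ 0) : ρ.character = partChar M 1 ∨ ρ.character = partChar M (-1) := by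
  by_cases h1 : T.comp (part M 1).toSubmodule.subtype = 0
  · refine Or.inr (equiv_of_intertwiner _
      (part_irreducible M hn h2 hψ (by norm_num)) ρ hρ
      (T.comp (part M (-1)).toSubmodule.subtype) (fun g w => hT g w) fun h => h0 ?_)
    refine LinearMap.ext fun f => ?_
    let fp : (Fin n → F) → ℂ := fun y => (f y + f (-y)) / 2
    let fm : (Fin n → F) → ℂ := fun y => (f y - f (-y)) / 2
    have hfp : fp ∈ (part M 1).toSubmodule := fun y => by simp [fp, add_comm]
    have hfm : fm ∈ (part M (-1)).toSubmodule := fun y => by simp [fm]; ring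
    have hp0 := LinearMap.congr_fun h1 ⟨fp, hfp⟩
    have hm0 := LinearMap.congr_fun h ⟨fm, hfm⟩
    simp only [LinearMap.comp_apply, Submodule.subtype_apply, LinearMap.zero_apply] at hp0 hm0
    rw [show f = fp + fm by funext y; simp [fp, fm]; ring, map_add, hp0, hm0]
    simp
  · exact Or.inl (equiv_of_intertwiner _ (part_irreducible M hn h2 hψ (by norm_num)) ρ hρ
      (T.comp (part M 1).toSubmodule.subtype) (fun g w => hT g w) h1)

theorem hom_of_eig {ψ : AddChar F ℂ} (M : Model (n := n) ψ) (hn : 2 ≤ n) (h2 : (2 : F) ≠ 0)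
    (hψ : ψ.IsPrimitive) {V : Type*} [AddCommGroup V] [Module ℂ V]
    (ρ : Representation ℂ (symplecticGroup (Fin n) F) V)
    (hrank : ∀ (φ : AddChar (Sym n F) ℂ) (v : V), v ≠ 0 → v ∈ eig (fun S => ρ (sieg S)) φ →
      ∃ (c : F) (x : Fin n → F), ∀ S, φ S = ψ (c * qv S x))
    {z : Fin n → F} (hz : z ≠ 0) {v : V} (hv : v ≠ 0)
    (hvz : v ∈ eig (fun S => ρ (sieg S)) (qchar ψ z)) :
    ∃ T : ((Fin n → F) → ℂ) →ₗ[ℂ] V, (∀ g f, T (M.ω g f) = ρ g (T f)) ∧ T ≠ 0 := by
  let i₀ : Fin n := ⟨0, by omega⟩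
  obtain ⟨A, hA⟩ := exists_act_eq i₀ hz
  have hμ := rho_sieg_lev ρ hvz A⁻¹
  rw [show act A⁻¹ z = (Pi.single i₀ 1 : Fin n → F) by rw [← hA, act_inv_act]] at hμ
  obtain ⟨T, hT, hTe⟩ := exists_hom M ρ h2 hψ hrank hn i₀ hμ
  refine ⟨T, hT, fun h => hv ?_⟩
  rw [h, LinearMap.zero_apply] at hTe
  have := congrArg (ρ (lev A)) hTe
  rwa [map_zero, ← Module.End.mul_apply, ← map_mul, ← lev_mul_lev, mul_inv_cancel, lev_one,
    map_one, Module.End.one_apply, eq_comm] at this

theorem not_isSquare_div {δ c : F} (h2 : (2 : F) ≠ 0) (hc : ¬IsSquare c) (hδ : ¬IsSquare δ) :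
    IsSquare (c / δ) := by
  classical
  have hF : ringChar F ≠ 2 := fun h => h2 (by
    haveI : CharP F 2 := h ▸ ringChar.charP F
    exact CharTwo.two_eq_zero)
  have hc0 : c ≠ 0 := fun h => hc (h ▸ IsSquare.zero)
  have hδ0 : δ ≠ 0 := fun h => hδ (h ▸ IsSquare.zero)
  refine (quadraticChar_one_iff_isSquare (div_ne_zero hc0 hδ0)).mp ?_
  have h1 : quadraticChar F (c / δ) * quadraticChar F δ = quadraticChar F c := by
    rw [← map_mul, div_mul_cancel₀ _ hδ0]
  rw [quadraticChar_neg_one_iff_not_isSquare.mpr hδ,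
    quadraticChar_neg_one_iff_not_isSquare.mpr hc] at h1
  linarith

theorem classification (hn : 2 ≤ n) (hodd : Odd (Fintype.card F)) {ψ : AddChar F ℂ}
    (hψ : ψ.IsPrimitive) {δ : F} (hδ : ¬IsSquare δ) (M₀ : Model (n := n) ψ)
    (M₁ : Model (n := n) (ψ.mulShift δ)) {d : ℕ}
    (ρ : Representation ℂ (symplecticGroup (Fin n) F) (Fin d → ℂ)) (hρ : ρ.IsIrreducible)
    (hd : 2 ≤ d) :
    ((Fintype.card F : ℤ) ^ n - 1) * ((Fintype.card F : ℤ) ^ n - Fintype.card F) ≤
        2 * ((Fintype.card F : ℤ) + 1) * (d : ℤ) ∨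
      ρ.character = partChar M₀ 1 ∨ ρ.character = partChar M₀ (-1) ∨
      ρ.character = partChar M₁ 1 ∨ ρ.character = partChar M₁ (-1) := by
  classical
  haveI : Fintype (Sym n F) := Fintype.ofFinite _
  have hchar : ringChar F ≠ 2 := by
    intro h
    have := FiniteField.even_card_iff_char_two.mp h
    rw [Nat.odd_iff] at hodd
    omega
  have h2 : (2 : F) ≠ 0 := Ring.two_ne_zero hchar
  obtain ⟨θ, hθ⟩ := exists_shift hψ
  refine or_iff_not_imp_left.mpr fun hsmall => ?_
  have hrank : ∀ (φ : AddChar (Sym n F) ℂ) (v : Fin d → ℂ), v ≠ 0 →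
      v ∈ eig (fun S => ρ (sieg S)) φ → ∃ (c : F) (x : Fin n → F), ∀ S, φ S = ψ (c * qv S x) := by
    intro φ v hv hφ
    rcases dichotomy hψ hθ h2 ρ hv hφ with h | h
    · rw [Module.finrank_fin_fun] at h
      exact absurd h hsmall
    · exact h
  have hR : ∀ a b : Sym n F, ρ (sieg (a + b)) = ρ (sieg a) * ρ (sieg b) := fun a b => by
    rw [sieg_add, map_mul]
  have hR0 : ρ (sieg (0 : Sym n F)) = 1 := by rw [sieg_zero, map_one]
  let i₀ : Fin n := ⟨0, by omega⟩
  have hS : rk1 (1 : F) (Pi.single i₀ 1 : Fin n → F) ≠ 0 := by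
    intro h
    have := congrFun (congrFun (congrArg Subtype.val h) i₀) i₀
    simp [rk1, vecMulVec_apply] at this
  have hker := symplectic_ker hn (fun _ h2' => by rw [h2'] at hodd; exact absurd hodd (by decide))
      ρ hρ hd hS
  obtain ⟨φ, v, hv, hφ, hφ1⟩ : ∃ (φ : AddChar (Sym n F) ℂ) (v : Fin d → ℂ),
      v ≠ 0 ∧ v ∈ eig (fun S => ρ (sieg S)) φ ∧ φ ≠ 1 := by
    by_contra hcon
    push Not at hcon
    apply hker
    rw [toGLHom_eq_one_iff]
    refine LinearMap.ext fun w => ?_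
    rw [Module.End.one_apply]
    conv_rhs => rw [← exists_sum_pr (R := fun S => ρ (sieg S)) hR0 w]
    conv_lhs => rw [← exists_sum_pr (R := fun S => ρ (sieg S)) hR0 w]
    rw [map_sum]
    refine Finset.sum_congr rfl fun χ _ => ?_
    by_cases h : pr (fun S => ρ (sieg S)) χ w = 0
    · rw [h, map_zero]
    · have h1 := pr_mem (R := fun S => ρ (sieg S)) hR χ w (rk1 1 (Pi.single i₀ 1))
      obtain rfl := hcon χ _ h (pr_mem hR χ w)
      rw [AddChar.one_apply, one_smul] at h1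
      exact h1
  obtain ⟨c, x, hcx⟩ := hrank φ v hv hφ
  have hc : c ≠ 0 := fun h => hφ1 (by ext S; simp [hcx, h])
  have hx : x ≠ 0 := fun h => hφ1 (by ext S; simp [hcx, h, qv])
  have hψ' : (ψ.mulShift δ).IsPrimitive := AddChar.IsPrimitive.of_ne_one
    (hψ (fun h => hδ (h ▸ IsSquare.zero)))
  have hscale : ∀ (a : F) (S : Sym n F), qv S (a • x) = a * a * qv S x := fun a S => by
    simp [qv, mulVec_smul]; ring
  by_cases hsq : IsSquare c
  · obtain ⟨a, rfl⟩ := hsq
    obtain ⟨T, hT, hT0⟩ := hom_of_eig M₀ hn h2 hψ ρ hrank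
      (z := a • x) (smul_ne_zero (left_ne_zero_of_mul hc) hx) hv (by
        intro S; rw [hφ S, hcx, qchar_apply, hscale])
    rcases eq_char_of_hom M₀ (by omega) h2 hψ ρ hρ T hT hT0 with h | h
    · exact Or.inl h
    · exact Or.inr (Or.inl h)
  · have hδ0 : δ ≠ 0 := fun h => hδ (h ▸ IsSquare.zero)
    obtain ⟨a, ha⟩ := not_isSquare_div h2 hsq hδ
    have ha' : c = δ * (a * a) := by rw [← ha]; field_simp
    have ha0 : a ≠ 0 := fun h => hc (by rw [ha', h]; ring)
    have hrank' : ∀ (φ : AddChar (Sym n F) ℂ) (v : Fin d → ℂ), v ≠ 0 →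
        v ∈ eig (fun S => ρ (sieg S)) φ →
        ∃ (c : F) (x : Fin n → F), ∀ S, φ S = ψ.mulShift δ (c * qv S x) := by
      intro φ v hv hφ
      obtain ⟨c, x, h⟩ := hrank φ v hv hφ
      refine ⟨c / δ, x, fun S => ?_⟩
      rw [h, AddChar.mulShift_apply, ← mul_assoc, mul_div_cancel₀ _ hδ0]
    obtain ⟨T, hT, hT0⟩ := hom_of_eig M₁ hn h2 hψ' ρ hrank'
      (z := a • x) (smul_ne_zero ha0 hx) hv (by
        intro S; rw [hφ S, hcx, qchar_apply, hscale, AddChar.mulShift_apply, ha', mul_assoc])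
    rcases eq_char_of_hom M₁ (by omega) h2 hψ' ρ hρ T hT hT0 with h | h
    · exact Or.inr (Or.inr (Or.inl h))
    · exact Or.inr (Or.inr (Or.inr h))

theorem partChar_ne (hn : 1 ≤ n) (h2 : (2 : F) ≠ 0) {ψ : AddChar F ℂ}
    (hψ : ψ.IsPrimitive) {δ : F} (hδ : ¬IsSquare δ) (M₀ : Model (n := n) ψ)
    (M₁ : Model (n := n) (ψ.mulShift δ)) {s : ℂ} (hs : s * s = 1) :
    partChar M₀ s ≠ partChar M₁ s := by
  classical
  intro h
  haveI : Fintype (Sym n F) := Fintype.ofFinite _
  let i₀ : Fin n := ⟨0, hn⟩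
  let e : Fin n → F := Pi.single i₀ 1
  let R₀ := fun S : Sym n F => (part M₀ s).toRepresentation (sieg S)
  let R₁ := fun S : Sym n F => (part M₁ s).toRepresentation (sieg S)
  have hR₀ : ∀ a b, R₀ (a + b) = R₀ a * R₀ b := fun a b => by simp [R₀, sieg_add]
  have hR₁ : ∀ a b, R₁ (a + b) = R₁ a * R₁ b := fun a b => by simp [R₁, sieg_add]
  have hrk : (Module.finrank ℂ (eig R₀ (qchar ψ e)) : ℂ) =
      Module.finrank ℂ (eig R₁ (qchar ψ e)) := by
    rw [finrank_eig hR₀, finrank_eig hR₁]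
    congr 1
    refine Finset.sum_congr rfl fun a _ => ?_
    congr 1
    exact congrFun h (sieg a)
  have hb : (⟨bv s e, bv_mem M₀ hs e⟩ : (part M₀ s).toSubmodule) ∈ eig R₀ (qchar ψ e) := by
    intro S
    apply Subtype.ext
    show M₀.ω (sieg S) (bv s e) = qchar ψ e S • bv s e
    rw [bv, map_add, map_smul, M₀.sieg, M₀.sieg,
      show qv S (-e) = qv S e by simp [qv, mulVec_neg], ← qchar_apply, smul_comm, ← smul_add]
  have hb0 : (⟨bv s e, bv_mem M₀ hs e⟩ : (part M₀ s).toSubmodule) ≠ 0 := fun h0 => by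
    have h' : bv s e e = 0 := congrFun (congrArg Subtype.val h0) e
    rw [bv_apply, dl_self, dl_ne] at h'
    · simp at h'
    · intro h1
      have := congrFun h1 i₀
      simp only [e, Pi.neg_apply, Pi.single_eq_same] at this
      exact h2 (by linear_combination this)
  have hpos : 0 < Module.finrank ℂ (eig R₀ (qchar ψ e)) :=
    Submodule.one_le_finrank_iff.mpr ((Submodule.ne_bot_iff _).mpr ⟨_, hb, hb0⟩)
  have hne : eig R₁ (qchar ψ e) ≠ ⊥ := by
    intro hbot
    rw [Nat.cast_inj, hbot, finrank_bot] at hrk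
    omega
  obtain ⟨f, hf, hf0⟩ := Submodule.exists_mem_ne_zero_of_ne_bot hne
  obtain ⟨y, hy⟩ := Function.ne_iff.mp (fun h0 : (f : (Fin n → F) → ℂ) = 0 => hf0 (Subtype.ext h0))
  have hq : ∀ S, qchar ψ e S = qchar (ψ.mulShift δ) y S := by
    intro S
    have h1 : M₁.ω (sieg S) (f : (Fin n → F) → ℂ) y = qchar ψ e S * (f : (Fin n → F) → ℂ) y :=
      congrFun (congrArg Subtype.val (hf S)) y
    rw [omega_sieg] at h1
    exact (mul_right_cancel₀ (by simpa using hy) h1).symm
  apply hδ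
  have h1 : δ * (y i₀ * y i₀) = 1 := by
    refine shift_inj hψ fun t => ?_
    have := hq (rk1 t e)
    rw [qchar_apply, qchar_apply, qv_rk1, qv_rk1, AddChar.mulShift_apply] at this
    simp [e, single_dotProduct] at this
    rw [one_mul, show δ * (y i₀ * y i₀) * t = δ * (t * y i₀ * y i₀) by ring, this]
  have hy0 : y i₀ ≠ 0 := fun h0 => by simp [h0] at h1
  exact ⟨(y i₀)⁻¹, by field_simp at h1 ⊢; linear_combination h1⟩

theorem bound_gt {q : ℤ} (hq : 3 ≤ q) {X : ℤ} (hX : q * q ≤ X) {d : ℤ} (hd : 2 * d ≤ X + 1) :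
    ¬ (X - 1) * (X - q) ≤ 2 * (q + 1) * d := by
  intro h
  have h1 : q + 3 ≤ X - q := by nlinarith
  have h3 : (X - 1) * (q + 3) ≤ (q + 1) * (X + 1) := by
    calc (X - 1) * (q + 3) ≤ (X - 1) * (X - q) := by
          apply mul_le_mul_of_nonneg_left h1; nlinarith
      _ ≤ 2 * (q + 1) * d := h
      _ ≤ (q + 1) * (X + 1) := by nlinarith
  nlinarith

end Cfsg.Agent.CrossChar56.RankOne
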