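import Cfsg.Agent.CrossChar56.Weil
import Cfsg.Agent.CrossChar56.RankOne.Elems

/-!
The full Weil representation on functions (helper56), with the shape of the values on upper, Levi
and partial Fourier elements.
-/

set_option autoImplicit false

noncomputable section

namespace Cfsg.Agent.CrossChar56.RankOne

open Matrix SpBound

variable {F : Type*} [Field F] {n : ℕ}

/-- the basis function -/
def dl (x : Fin n → F) : (Fin n → F) → ℂ := Set.indicator {x} 1

theorem dl_self (x : Fin n → F) : dl x x = 1 := by simp [dl]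

theorem dl_ne {x y : Fin n → F} (h : y ≠ x) : dl x y = 0 := by simp [dl, h]

/-- quadratic value of a symmetric matrix -/
def qv (S : Sym n F) (x : Fin n → F) : F := x ⬝ᵥ (S.1 *ᵥ x)

/-- contragredient action of `GL` on vectors -/
def act (A : GL (Fin n) F) (x : Fin n → F) : Fin n → F :=
  ((A⁻¹ : GL (Fin n) F) : Matrix (Fin n) (Fin n) F)ᵀ *ᵥ x

theorem act_mul (A B : GL (Fin n) F) (x : Fin n → F) : act (A * B) x = act A (act B x) := by
  simp [act, mulVec_mulVec, transpose_mul]

theorem act_one (x : Fin n → F) : act (1 : GL (Fin n) F) x = x := by simp [act]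

theorem act_inv_act (A : GL (Fin n) F) (x : Fin n → F) : act A⁻¹ (act A x) = x := by
  rw [← act_mul, inv_mul_cancel, act_one]

theorem act_eq_iff (A : GL (Fin n) F) (x y : Fin n → F) :
    act A x = y ↔ x = (A : Matrix (Fin n) (Fin n) F)ᵀ *ᵥ y := by
  constructor
  · rintro rfl
    simp [act, mulVec_mulVec, ← transpose_mul]
  · rintro rfl
    simp [act, mulVec_mulVec, ← transpose_mul]

theorem qv_cong (A : GL (Fin n) F) (S : Sym n F) (x : Fin n → F) :
    qv (cong (A : Matrix (Fin n) (Fin n) F) S) (act A x) = qv S x := by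
  simp only [qv, cong, act]
  rw [mulVec_mulVec, Matrix.mul_assoc, ← transpose_mul, Units.inv_mul, transpose_one,
    Matrix.mul_one, dotProduct_comm, dotProduct_mulVec, ← mulVec_transpose, mulVec_mulVec,
    transpose_transpose, ← Matrix.mul_assoc, Units.inv_mul, Matrix.one_mul, dotProduct_comm]

/-- the inverse transpose automorphism -/
def flip (g : symplecticGroup (Fin n) F) : symplecticGroup (Fin n) F :=
  ⟨(g⁻¹).1ᵀ, SymplecticGroup.transpose_mem (g⁻¹).2⟩

theorem flip_mul (g h : symplecticGroup (Fin n) F) : flip (g * h) = flip g * flip h := by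
  apply Subtype.ext
  show ((g * h)⁻¹).1ᵀ = _
  rw [_root_.mul_inv_rev, Submonoid.coe_mul, transpose_mul]
  rfl

theorem flip_eq {g : symplecticGroup (Fin n) F} {M : Matrix (Fin n ⊕ Fin n) (Fin n ⊕ Fin n) F}
    (h : g.1 * Mᵀ = 1) : (flip g).1 = M := by
  have h1 : (g⁻¹).1 = Mᵀ := by
    calc (g⁻¹).1 = (g⁻¹).1 * (g.1 * Mᵀ) := by rw [h, Matrix.mul_one]
      _ = Mᵀ := by rw [← Matrix.mul_assoc, ← Submonoid.coe_mul, inv_mul_cancel, OneMemClass.coe_one,
            Matrix.one_mul]
  show (g⁻¹).1ᵀ = M
  rw [h1, transpose_transpose]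

variable [Fintype F]

/-- a representation of Weil type attached to an additive character -/
structure Model (ψ : AddChar F ℂ) where
  /-- the representation -/
  ω : Representation ℂ (symplecticGroup (Fin n) F) ((Fin n → F) → ℂ)
  /-- the multiplier on the Levi subgroup -/
  χ : GL (Fin n) F → ℂ
  sieg : ∀ S x, ω (sieg S) (dl x) = ψ (qv S x) • dl x
  levi : ∀ A x, ω (lev A) (dl x) = χ A • dl (act A x)
  χ_one : χ 1 = 1
  χ_mul : ∀ A B, χ (A * B) = χ A * χ B
  /-- coefficients of the partial Fourier elements -/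
  K : Fin n → F → F → ℂ
  K_ne : ∀ j t r, K j t r ≠ 0
  fourier : ∀ (j : Fin n) (x : Fin n → F),
    ω (wel {j}) (dl x) = ∑ r, K j (x j) r • dl (Function.update x j r)
  parity : ∀ g f, ω g (fun x => f (-x)) = fun x => ω g f (-x)

variable [DecidableEq F] (ψ : AddChar F ℂ)

open Weil in
theorem exists_full (h2 : (2 : F) ≠ 0) (hψ : ψ.IsPrimitive) :
    ∃ R : symplecticGroup (Fin n) F →* Matrix (Fin n → F) (Fin n → F) ℂ,
      ∀ g P, IsInter ψ g P → P ≠ 0 →
        R g = ((odd P).det / (even P).det) • P ∧ R g * par = par * R g := by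
  choose P hP hP0 using fun g : symplecticGroup (Fin n) F => exists_inter ψ hψ h2 g
  let val : Matrix (Fin n → F) (Fin n → F) ℂ → Matrix (Fin n → F) (Fin n → F) ℂ :=
    fun Q => ((odd Q).det / (even Q).det) • Q
  have uniq : ∀ g Q, IsInter ψ g Q → Q ≠ 0 → val (P g) = val Q := by
    intro g Q hQ hQ0
    obtain ⟨c, hc⟩ := inter_unique ψ hψ (hP g) (hP0 g) hQ
    have hc0 : c ≠ 0 := by rintro rfl; simp at hc; exact hQ0 hc
    simp only [val, hc, odd_smul, even_smul, det_smul, Fintype.card_option, pow_succ, smul_smul]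
    congr 1
    have : c ^ Fintype.card (reps F n) ≠ 0 := pow_ne_zero _ hc0
    field_simp
  have hcomm := fun g Q (hQ : IsInter ψ g Q) (hQ0 : Q ≠ 0) =>
    show val Q * par = par * val Q by
      simp only [val, smul_mul_assoc, mul_smul_comm, inter_comm_par ψ hψ h2 hQ hQ0]
  refine ⟨{ toFun := fun g => val (P g), map_one' := ?_, map_mul' := ?_ },
    fun g Q hQ hQ0 => ⟨uniq g Q hQ hQ0, by
      show val (P g) * par = par * val (P g)
      exact hcomm g _ (hP g) (hP0 g)⟩⟩
  · have h1 : IsInter ψ (1 : symplecticGroup (Fin n) F)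
        (1 : Matrix (Fin n → F) (Fin n → F) ℂ) := fun v => by simp
    rw [uniq 1 1 h1 one_ne_zero]
    simp [val, odd_one h2, even_one h2]
  · intro g h
    have hgh : IsInter ψ (g * h) (P g * P h) := by
      intro v
      rw [Matrix.mul_assoc, hP h v, ← Matrix.mul_assoc, hP g, Matrix.mul_assoc, Submonoid.coe_mul,
        ← mulVec_mulVec]
    have hne : P g * P h ≠ 0 :=
      ((inter_isUnit ψ hψ (hP g) (hP0 g)).mul (inter_isUnit ψ hψ (hP h) (hP0 h))).ne_zero
    rw [uniq (g * h) _ hgh hne]
    simp only [val, odd_mul h2 _ _ (inter_comm_par ψ hψ h2 (hP h) (hP0 h)),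
      even_mul h2 _ _ (inter_comm_par ψ hψ h2 (hP h) (hP0 h)), det_mul, smul_mul_smul_comm]
    rw [div_mul_div_comm]

theorem dl_eq_single (x : Fin n → F) : dl x = Pi.single x 1 := by
  funext y
  by_cases h : y = x
  · subst h; simp [dl]
  · simp [dl, h]

open Weil in
theorem inter_sieg (h2 : (2 : F) ≠ 0) (S : Sym n F) :
    IsInter ψ (flip (sieg S)) (Matrix.diagonal fun x => ψ ((2 : F)⁻¹ * qv S x)) := by
  have hS : S.1ᵀ = S.1 := S.2
  have hf : (flip (sieg S)).1 = fromBlocks 1 0 (-S.1) 1 := by
    refine flip_eq ?_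
    simp [sieg, fromBlocks_transpose, fromBlocks_multiply, hS, fromBlocks_one]
  intro v
  ext x y
  simp only [Matrix.diagonal_mul, Matrix.mul_diagonal, op, of_apply, hf, fromBlocks_mulVec,
    one_mulVec, zero_mulVec, add_zero, Sum.elim_comp_inl, Sum.elim_comp_inr, neg_mulVec]
  split
  · next hy =>
    subst hy
    rw [← AddChar.map_add_eq_mul, ← AddChar.map_add_eq_mul]
    congr 1
    simp only [qv, mulVec_add, add_dotProduct, dotProduct_add, neg_dotProduct, dotProduct_neg]
    rw [dotProduct_comm (S.1 *ᵥ (v ∘ Sum.inl)) x,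
      show (v ∘ Sum.inl) ⬝ᵥ (S.1 *ᵥ x) = x ⬝ᵥ (S.1 *ᵥ (v ∘ Sum.inl)) by
        rw [dotProduct_mulVec, ← mulVec_transpose, hS, dotProduct_comm]]
    field_simp
    ring
  · simp

open Weil in
theorem inter_lev (A : GL (Fin n) F) :
    IsInter ψ (flip (lev A))
      (Matrix.of fun x y => if x = act A y then (1 : ℂ) else 0) := by
  have hf : (flip (lev A)).1 =
      fromBlocks ((A⁻¹ : GL (Fin n) F) : Matrix (Fin n) (Fin n) F)ᵀ 0 0
        (A : Matrix (Fin n) (Fin n) F) := by
    refine flip_eq ?_
    simp [coe_lev, fromBlocks_transpose, fromBlocks_multiply, ← transpose_mul, fromBlocks_one]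
  intro v
  ext x y
  have hx : ∀ z, x = act A z ↔ z = (A : Matrix (Fin n) (Fin n) F)ᵀ *ᵥ x := fun z => by
    rw [eq_comm, act_eq_iff]
  simp only [Matrix.mul_apply, of_apply, op, hf, fromBlocks_mulVec, zero_mulVec, add_zero, zero_add,
    Sum.elim_comp_inl, Sum.elim_comp_inr, hx, ite_mul, one_mul, zero_mul, Finset.sum_ite_eq',
    Finset.mem_univ, if_true]
  have e1 : (x + ((A⁻¹ : GL (Fin n) F) : Matrix (Fin n) (Fin n) F)ᵀ *ᵥ (v ∘ Sum.inl) = act A y) ↔
      y = (A : Matrix (Fin n) (Fin n) F)ᵀ *ᵥ x + v ∘ Sum.inl := by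
    rw [eq_comm, act_eq_iff, mulVec_add, mulVec_mulVec, ← transpose_mul, Units.inv_mul,
      transpose_one, one_mulVec]
  simp only [e1]
  split
  · rw [mul_one]
    congr 1
    have e3 : ∀ w : Fin n → F, ((A : Matrix (Fin n) (Fin n) F) *ᵥ (v ∘ Sum.inr)) ⬝ᵥ w =
        (v ∘ Sum.inr) ⬝ᵥ ((A : Matrix (Fin n) (Fin n) F)ᵀ *ᵥ w) := fun w => by
      rw [dotProduct_comm, dotProduct_mulVec, ← mulVec_transpose, dotProduct_comm]
    rw [e3, dotProduct_comm _ ((A : Matrix (Fin n) (Fin n) F) *ᵥ (v ∘ Sum.inr)), e3, mulVec_mulVec,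
      ← transpose_mul, Units.inv_mul, transpose_one, one_mulVec,
      dotProduct_comm (v ∘ Sum.inl) (v ∘ Sum.inr)]
  · rw [mul_zero]

open Weil in
theorem inter_wel (h2 : (2 : F) ≠ 0) (j : Fin n) :
    IsInter ψ (flip (wel {j})) (Matrix.of fun x y : Fin n → F =>
      if y = Function.update x j (y j) then ψ (x j * y j) else 0) := by
  have hf : (flip (wel {j} : symplecticGroup (Fin n) F)).1 = (wel {j}).1 := by
    refine flip_eq ?_
    simp [wel, fromBlocks_transpose, fromBlocks_multiply, prj_transpose, mul_sub, sub_mul,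
      prj_self, fromBlocks_one]
  intro v
  set a := v ∘ Sum.inl
  set b := v ∘ Sum.inr
  have hP : ∀ u : Fin n → F, (prj {j} : Matrix (Fin n) (Fin n) F) *ᵥ u = Pi.single j (u j) := by
    intro u; funext k
    by_cases hk : k = j
    · subst hk; simp [prj, mulVec_diagonal]
    · simp [prj, mulVec_diagonal, hk]
  have hl : ((flip (wel {j})).1 *ᵥ v) ∘ Sum.inl = Function.update a j (b j) := by
    rw [hf]; funext k
    by_cases hk : k = j
    · subst hk; simp [wel, fromBlocks_mulVec, sub_mulVec, hP, a, b]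
    · simp [wel, fromBlocks_mulVec, sub_mulVec, hP, a, b, hk]
  have hr : ((flip (wel {j})).1 *ᵥ v) ∘ Sum.inr = Function.update b j (-a j) := by
    rw [hf]; funext k
    by_cases hk : k = j
    · subst hk; simp [wel, fromBlocks_mulVec, sub_mulVec, neg_mulVec, hP, a, b]
    · simp [wel, fromBlocks_mulVec, sub_mulVec, neg_mulVec, hP, a, b, hk]
  ext x y
  simp only [Matrix.mul_apply, of_apply, op, hl, hr]
  set a' := Function.update a j (b j)
  set b' := Function.update b j (-a j)
  rw [Finset.sum_eq_single (y - a), Finset.sum_eq_single (x + a')]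
  · rw [if_pos rfl, if_pos (sub_add_cancel y a).symm]
    have hiff : (y - a = Function.update x j ((y - a) j)) ↔
        (y = Function.update (x + a') j (y j)) := by
      constructor <;> intro h <;> funext k <;>
        (by_cases hk : k = j
         · subst hk; simp
         · have h' := congrFun h k
           simp [a', hk] at h' ⊢
           first | linear_combination h' | skip)
    simp only [hiff]
    split
    · next hy =>
      rw [← AddChar.map_add_eq_mul, ← AddChar.map_add_eq_mul]
      congr 1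
      have hb : ∀ u w : Fin n → F, u ⬝ᵥ w = u j * w j + ∑ k ∈ Finset.univ.erase j, u k * w k :=
        fun u w => (Finset.add_sum_erase Finset.univ (fun k => u k * w k) (Finset.mem_univ j)).symm
      have hoff : ∀ k ∈ Finset.univ.erase j, a' k = a k ∧ b' k = b k ∧ y k = x k + a k := by
        intro k hk
        have hkj := (Finset.mem_erase.mp hk).1
        refine ⟨by simp [a', hkj], by simp [b', hkj], ?_⟩
        have := congrFun hy k
        simp [a', hkj] at this
        exact this
      rw [hb b, hb a, hb b', hb a',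
        Finset.sum_congr rfl (fun k hk => show b k * (y - a) k = b k * x k by
          rw [Pi.sub_apply, (hoff k hk).2.2, add_sub_cancel_right]),
        Finset.sum_congr rfl (fun k hk => show b' k * x k = b k * x k by rw [(hoff k hk).2.1]),
        Finset.sum_congr rfl (fun k hk => show a' k * b' k = a k * b k by
          rw [(hoff k hk).1, (hoff k hk).2.1])]
      simp [a', b', a, b]
      field_simp
      ring_nf
    · simp
  · intro w _ hw; rw [if_neg hw, zero_mul]
  · simp
  · intro w _ hw
    rw [if_neg (fun h : y = w + a => hw (eq_sub_of_add_eq h.symm)), mul_zero]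
  · simp

open Weil in
/-- existence of a model -/
theorem exists_model (h2 : (2 : F) ≠ 0) (hψ : ψ.IsPrimitive) : Nonempty (Model (n := n) ψ) := by
  classical
  let ψ' := ψ.mulShift 2
  have hψ' : ψ'.IsPrimitive := AddChar.IsPrimitive.of_ne_one (hψ h2)
  obtain ⟨R, hR⟩ := exists_full (n := n) ψ' h2 hψ'
  let σ : symplecticGroup (Fin n) F →* symplecticGroup (Fin n) F := MonoidHom.mk' flip flip_mul
  let ω : Representation ℂ (symplecticGroup (Fin n) F) ((Fin n → F) → ℂ) :=
    (Matrix.toLinAlgEquiv' : Matrix (Fin n → F) (Fin n → F) ℂ ≃ₐ[ℂ] _).toMonoidHom.comp (R.comp σ)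
  have hω : ∀ g f, ω g f = R (flip g) *ᵥ f := fun g f => rfl
  have hsc : ∀ (g : symplecticGroup (Fin n) F) P, IsInter ψ' g P → P ≠ 0 →
      (odd P).det / (even P).det ≠ 0 := by
    intro g P hP hP0 h
    have h1 := (hR g P hP hP0).1
    rw [h, zero_smul] at h1
    have h2' : R g * R g⁻¹ = 1 := by rw [← map_mul, mul_inv_cancel, map_one]
    rw [h1, zero_mul] at h2'
    exact zero_ne_one h2'
  let PS : Sym n F → Matrix (Fin n → F) (Fin n → F) ℂ :=
    fun S => Matrix.diagonal fun x => ψ' ((2 : F)⁻¹ * qv S x)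
  let PL : GL (Fin n) F → Matrix (Fin n → F) (Fin n → F) ℂ :=
    fun A => Matrix.of fun x y => if x = act A y then (1 : ℂ) else 0
  let PW : Fin n → Matrix (Fin n → F) (Fin n → F) ℂ :=
    fun j => Matrix.of fun x y : Fin n → F =>
      if y = Function.update x j (y j) then ψ' (x j * y j) else 0
  have hPL : ∀ A, PL A ≠ 0 := fun A h => by
    simpa [PL] using congrFun (congrFun h (act A 0)) 0
  have hPW : ∀ j, PW j ≠ 0 := fun j h => by
    simpa [PW] using congrFun (congrFun h 0) 0
  have hS : ∀ S x, ω (sieg S) (dl x) = ψ (qv S x) • dl x := by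
    intro S x
    have hP0 : PS S ≠ 0 := fun h => by
      simpa [PS, qv] using congrFun (congrFun h 0) 0
    have hne : ∀ t : reps F n, ∀ a : reps F n, a.1 ≠ -t.1 := by
      intro t a h
      rcases reps_trichotomy h2 t.1 with h' | h' | h'
      · exact h'.2.1 t.2
      · exact h'.2.2 (h ▸ a.2)
      · exact h'.2.1 t.2
    have hne0 : ∀ t : reps F n, t.1 ≠ 0 := fun t h => zero_notMem_reps (F := F) (n := n) (h ▸ t.2)
    set φ : (Fin n → F) → ℂ := fun x => ψ' ((2 : F)⁻¹ * qv S x) with hφ
    have ho : odd (PS S) = Matrix.diagonal (fun t : reps F n => φ t.1) := by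
      ext a t
      by_cases hat : a = t
      · subst hat; simp [odd, PS, φ, hne a a]
      · simp [odd, PS, hne t a, hat, Subtype.coe_inj]
    have he : even (PS S) = Matrix.diagonal (fun t : EI F n => φ (t.elim 0 Subtype.val)) := by
      ext a t
      rcases a with _ | a <;> rcases t with _ | t
      · simp [even, PS, φ]
      · simp [even, PS, Matrix.diagonal, hne0 t, eq_comm]
      · simp [even, PS, Matrix.diagonal, hne0 a]
      · by_cases hat : a = t
        · subst hat; simp [even, PS, φ, hne a a]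
        · simp [even, PS, hne t a, hat, Subtype.coe_inj]
    rw [hω, (hR _ _ (inter_sieg ψ' h2 S) hP0).1, ho, he, det_diagonal, det_diagonal,
      Fintype.prod_option]
    have h0 : φ 0 = 1 := by simp [φ, qv]
    simp only [Option.elim_none, Option.elim_some, h0, one_mul]
    rw [div_self, one_smul]
    · funext y
      rw [mulVec_diagonal, dl_eq_single]
      by_cases hy : y = x
      · subst hy
        simp [φ, ψ', AddChar.mulShift_apply, ← mul_assoc, mul_inv_cancel₀ h2]
      · simp [hy]
    · refine Finset.prod_ne_zero_iff.mpr (fun t _ => ?_)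
      exact left_ne_zero_of_mul_eq_one ((ψ'.map_add_eq_mul _ (-((2 : F)⁻¹ * qv S t.1))).symm.trans
        (by rw [add_neg_cancel, AddChar.map_zero_eq_one]))
  have hL : ∀ A, ∃ c : ℂ, ∀ x, ω (lev A) (dl x) = c • dl (act A x) := by
    intro A
    refine ⟨(odd (PL A)).det / (even (PL A)).det, fun x => ?_⟩
    rw [hω, (hR _ _ (inter_lev ψ' A) (hPL A)).1, smul_mulVec]
    congr 1
    funext y
    rw [dl_eq_single, dl_eq_single, mulVec_single_one]
    simp [PL, Pi.single_apply, eq_comm]
  choose χ hχ using hL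
  have hχ1 : χ 1 = 1 := by
    have h := congrFun (hχ 1 0) 0
    rw [lev_one, map_one] at h
    simpa [act, dl] using h.symm
  have hχm : ∀ A B, χ (A * B) = χ A * χ B := by
    intro A B
    have h := congrFun (hχ (A * B) 0) 0
    rw [lev_mul_lev, map_mul, Module.End.mul_apply, hχ, map_smul, hχ] at h
    simpa [act, dl, mul_comm] using h.symm
  let K : Fin n → F → F → ℂ := fun j t r =>
    (odd (PW j)).det / (even (PW j)).det * ψ' (r * t)
  refine ⟨⟨ω, χ, hS, hχ, hχ1, hχm, K, fun j t r => ?_, fun j x => ?_, fun g f => ?_⟩⟩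
  · exact mul_ne_zero (hsc _ _ (inter_wel ψ' h2 j) (hPW j))
      (left_ne_zero_of_mul_eq_one ((ψ'.map_add_eq_mul (r * t) (-(r * t))).symm.trans
        (by rw [add_neg_cancel, AddChar.map_zero_eq_one])))
  · rw [hω, (hR _ _ (inter_wel ψ' h2 j) (hPW j)).1, dl_eq_single, smul_mulVec, mulVec_single_one]
    funext y
    simp only [Pi.smul_apply, Matrix.col_apply, Finset.sum_apply, K, PW, of_apply, smul_eq_mul]
    by_cases hy : x = Function.update y j (x j)
    · rw [if_pos hy, Finset.sum_eq_single (y j)]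
      · rw [show Function.update x j (y j) = y by
          conv_lhs => rw [hy]
          simp, dl_self, mul_one]
      · intro r _ hr
        rw [dl_ne (fun h => hr (by rw [h]; simp)), mul_zero]
      · simp
    · rw [if_neg hy, mul_zero]
      symm
      refine Finset.sum_eq_zero fun r _ => ?_
      rw [dl_ne (fun h => hy (by rw [h]; simp)), mul_zero]
  · obtain ⟨P, hP, hP0⟩ := exists_inter ψ' hψ' h2 (flip g)
    have hc := (hR _ P hP hP0).2
    have hpar : ∀ f : (Fin n → F) → ℂ, (par : Matrix _ _ ℂ) *ᵥ f = fun x => f (-x) := fun f => by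
      funext x; simp [par, Matrix.mulVec, dotProduct]
    rw [hω, hω, ← hpar f, mulVec_mulVec, hc, ← mulVec_mulVec, hpar]

end Cfsg.Agent.CrossChar56.RankOne
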