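import Cfsg.Agent.CrossChar56.RankOne.Omega
import Cfsg.Agent.CrossChar56.RankOne.Eigen

/-!
Rank one representations (helper56): the stabiliser of a rank one character of the upper elements
acts on its eigenspace as in the Weil representation.
-/

set_option autoImplicit false
set_option linter.unusedSectionVars false
set_option linter.unusedSimpArgs false

noncomputable section

namespace Cfsg.Agent.CrossChar56.RankOne

open Matrix SpBound

variable {F : Type*} [Field F] {n : ℕ}

theorem qv_add (S T : Sym n F) (x : Fin n → F) : qv (S + T) x = qv S x + qv T x := by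
  simp [qv, add_mulVec, dotProduct_add]

theorem qv_rk1 (c : F) (v x : Fin n → F) : qv (rk1 c v) x = c * (v ⬝ᵥ x) * (v ⬝ᵥ x) := by
  simp [qv, rk1, smul_mulVec, vecMulVec_mulVec, dotProduct_comm x v]
  ring

theorem qv_rk2 (c : F) (u v x : Fin n → F) : qv (rk2 c u v) x = 2 * c * (u ⬝ᵥ x) * (v ⬝ᵥ x) := by
  simp [qv, rk2, smul_mulVec, add_mulVec, vecMulVec_mulVec, dotProduct_add, dotProduct_comm x u,
    dotProduct_comm x v]
  ring

theorem prj_singleton (i : Fin n) :
    (prj {i} : Matrix (Fin n) (Fin n) F) = vecMulVec (Pi.single i 1) (Pi.single i 1) := by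
  ext a b
  by_cases ha : a = i <;> by_cases hb : b = i <;>
    simp [prj, vecMulVec_apply, Matrix.diagonal_apply, ha, hb, Ne.symm]

/-- the character `S ↦ ψ (xᵀ S x)` -/
def qchar (ψ : AddChar F ℂ) (x : Fin n → F) : AddChar (Sym n F) ℂ :=
  ψ.compAddMonoidHom (AddMonoidHom.mk' (fun S => qv S x) fun S T => qv_add S T x)

theorem qchar_apply (ψ : AddChar F ℂ) (x : Fin n → F) (S : Sym n F) :
    qchar ψ x S = ψ (qv S x) := rfl

variable [Fintype F]

/-- linear extension from basis functions -/
def lext {V : Type*} [AddCommGroup V] [Module ℂ V] (φ : (Fin n → F) → V) :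
    ((Fin n → F) → ℂ) →ₗ[ℂ] V := ∑ z, (LinearMap.proj z).smulRight (φ z)

variable {V : Type*} [AddCommGroup V] [Module ℂ V]

theorem lext_apply (φ : (Fin n → F) → V) (f : (Fin n → F) → ℂ) :
    lext φ f = ∑ z, f z • φ z := by
  simp [lext, LinearMap.sum_apply]

theorem lext_dl (φ : (Fin n → F) → V) (z : Fin n → F) : lext φ (dl z) = φ z := by
  rw [lext_apply, Finset.sum_eq_single z]
  · rw [dl_self, one_smul]
  · intro y _ hy; rw [dl_ne hy, zero_smul]
  · simp

theorem sum_dl (f : (Fin n → F) → ℂ) : ∑ z, f z • dl z = f := by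
  funext y
  rw [Finset.sum_apply, Finset.sum_eq_single y]
  · simp [dl_self]
  · intro z _ hz; simp [dl_ne hz.symm]
  · simp

theorem lext_congr {φ φ' : (Fin n → F) → V} {f : (Fin n → F) → ℂ}
    (h : ∀ z, f z ≠ 0 → φ z = φ' z) : lext φ f = lext φ' f := by
  rw [lext_apply, lext_apply]
  refine Finset.sum_congr rfl fun z _ => ?_
  by_cases hz : f z = 0
  · simp [hz]
  · rw [h z hz]

/-- functions supported on the slice `z i = 1` -/
def slice (i : Fin n) : Submodule ℂ ((Fin n → F) → ℂ) where
  carrier := {f | ∀ z, f z ≠ 0 → z i = 1}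
  zero_mem' z h := absurd rfl h
  add_mem' := fun {f g} hf hg z h => by
    by_contra hz
    exact h (by simp [not_not.mp (mt (hf z) hz), not_not.mp (mt (hg z) hz)])
  smul_mem' c f hf z h := hf z fun h0 => h (by simp [h0])

theorem dl_mem_slice {i : Fin n} {z : Fin n → F} (hz : z i = 1) : dl z ∈ slice i := by
  intro y hy
  by_cases h : y = z
  · rw [h, hz]
  · exact absurd (dl_ne h) hy

variable {ψ : AddChar F ℂ} (M : Model (n := n) ψ)

theorem χ_ne (A : GL (Fin n) F) : M.χ A ≠ 0 := left_ne_zero_of_mul_eq_one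
  (b := M.χ A⁻¹) (by rw [← M.χ_mul, mul_inv_cancel, M.χ_one])

variable (ρ : Representation ℂ (symplecticGroup (Fin n) F) V) (i : Fin n)

/-- the eigenspace of the standard rank one character -/
def Ms (ψ : AddChar F ℂ) (ρ : Representation ℂ (symplecticGroup (Fin n) F) V) (i : Fin n) :
    Submodule ℂ V := eig (fun S => ρ (sieg S)) (qchar ψ (Pi.single i 1))

/-- the upper unitriangular part of the Levi subgroup fixing the `i`-th Heisenberg centre -/
def yel (b : Fin n → F) : GL (Fin n) F where
  val := 1 - vecMulVec (Pi.single i 1) (Function.update b i 0)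
  inv := 1 + vecMulVec (Pi.single i 1) (Function.update b i 0)
  val_inv := by simp [mul_add, sub_mul, vecMulVec_mul_vecMulVec, dotProduct_single]
  inv_val := by simp [mul_sub, add_mul, vecMulVec_mul_vecMulVec, dotProduct_single]

theorem act_yel (b z : Fin n → F) :
    act (yel i b) z = z + z i • Function.update b i 0 := by
  show (1 + vecMulVec (Pi.single i (1 : F)) (Function.update b i 0))ᵀ *ᵥ z = _
  simp [transpose_add, transpose_vecMulVec, add_mulVec, vecMulVec_mulVec, single_dotProduct]

theorem yel_congr {b c : Fin n → F} (h : ∀ k, k ≠ i → b k = c k) :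
    yel i b = yel i c := by
  apply Units.ext
  show 1 - vecMulVec (Pi.single i (1 : F)) (Function.update b i 0) = _
  congr 2
  funext k
  by_cases hk : k = i
  · subst hk; simp
  · simp [hk, h k hk]

theorem yel_add (b c : Fin n → F) : yel i (b + c) = yel i b * yel i c := by
  apply Units.ext
  show 1 - vecMulVec (Pi.single i (1 : F)) (Function.update (b + c) i 0) =
    (1 - vecMulVec (Pi.single i (1 : F)) (Function.update b i 0)) *
      (1 - vecMulVec (Pi.single i (1 : F)) (Function.update c i 0))
  rw [show Function.update (b + c) i 0 = Function.update b i 0 + Function.update c i 0 by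
    funext k; by_cases hk : k = i
    · subst hk; simp
    · simp [hk]]
  simp [vecMulVec_add, mul_sub, sub_mul, vecMulVec_mul_vecMulVec, dotProduct_single]
  abel

theorem act_yel_slice {z : Fin n → F} (hz : z i = 1) :
    act (yel i z) (Pi.single i 1) = z := by
  rw [act_yel]
  funext k
  by_cases hk : k = i
  · subst hk; simp [hz]
  · simp [hk]

/-- the model on the slice -/
def sl (μ : V) (z : Fin n → F) : V := (M.χ (yel i z))⁻¹ • ρ (lev (yel i z)) μ

/-- elements intertwining all slice models -/
def Kset : Submonoid (symplecticGroup (Fin n) F) where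
  carrier := {g | ∀ f ∈ slice i, M.ω g f ∈ slice i ∧
    ∀ μ ∈ Ms ψ ρ i, lext (sl M ρ i μ) (M.ω g f) = ρ g (lext (sl M ρ i μ) f)}
  one_mem' f hf := by simp [hf]
  mul_mem' := fun {g h} hg hh f hf => by
    refine ⟨by rw [map_mul, Module.End.mul_apply]; exact (hg _ (hh f hf).1).1, fun μ hμ => ?_⟩
    rw [map_mul, Module.End.mul_apply, (hg _ (hh f hf).1).2 μ hμ, (hh f hf).2 μ hμ, map_mul,
      Module.End.mul_apply]

theorem mem_Kset_of_basis {g : symplecticGroup (Fin n) F}
    (h : ∀ z : Fin n → F, z i = 1 → M.ω g (dl z) ∈ slice i ∧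
      ∀ μ ∈ Ms ψ ρ i, lext (sl M ρ i μ) (M.ω g (dl z)) = ρ g (sl M ρ i μ z)) :
    g ∈ Kset M ρ i := by
  intro f hf
  constructor
  · rw [← sum_dl f, map_sum]
    refine Submodule.sum_mem _ fun z _ => ?_
    by_cases hz : f z = 0
    · simp [hz]
    · rw [map_smul]; exact Submodule.smul_mem _ _ (h z (hf z hz)).1
  · intro μ hμ
    conv_lhs => rw [← sum_dl f]
    rw [lext_apply (sl M ρ i μ) f, map_sum, map_sum, map_sum]
    refine Finset.sum_congr rfl fun z _ => ?_
    by_cases hz : f z = 0
    · simp [hz]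
    · rw [map_smul, map_smul, map_smul, (h z (hf z hz)).2 μ hμ]

theorem rho_sieg_lev {x : Fin n → F} {μ : V}
    (hμ : μ ∈ eig (fun S => ρ (sieg S)) (qchar ψ x)) (A : GL (Fin n) F) :
    ρ (lev A) μ ∈ eig (fun S => ρ (sieg S)) (qchar ψ (act A x)) := by
  intro S
  have hS : cong (A : Matrix (Fin n) (Fin n) F)
      (cong ((A⁻¹ : GL (Fin n) F) : Matrix (Fin n) (Fin n) F) S) = S := by
    apply Subtype.ext
    simp only [cong]
    rw [← Matrix.mul_assoc, ← Matrix.mul_assoc, Units.mul_inv, Matrix.one_mul, Matrix.mul_assoc,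
      ← transpose_mul, Units.mul_inv, transpose_one, Matrix.mul_one]
  show ρ (sieg S) (ρ (lev A) μ) = _
  rw [← Module.End.mul_apply, ← map_mul, ← hS, ← lev_mul, map_mul, Module.End.mul_apply, hμ _,
    map_smul, hS]
  congr 1
  rw [qchar_apply, qchar_apply]
  conv_rhs => rw [← hS, qv_cong]

theorem sl_mem {μ : V} (hμ : μ ∈ Ms ψ ρ i) {z : Fin n → F} (hz : z i = 1) :
    sl M ρ i μ z ∈ eig (fun S => ρ (sieg S)) (qchar ψ z) := by
  refine Submodule.smul_mem _ _ ?_
  have := rho_sieg_lev ρ hμ (yel i z)
  rwa [act_yel_slice i hz] at this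

theorem sieg_mem (S : Sym n F) : sieg S ∈ Kset M ρ i := by
  refine mem_Kset_of_basis M ρ i fun z hz => ⟨?_, fun μ hμ => ?_⟩
  · rw [M.sieg]; exact Submodule.smul_mem _ _ (dl_mem_slice hz)
  · rw [M.sieg, map_smul, lext_dl, sl_mem M ρ i hμ hz S, qchar_apply]

theorem yel_mem (b : Fin n → F) : lev (yel i b) ∈ Kset M ρ i := by
  refine mem_Kset_of_basis M ρ i fun z hz => ?_
  have hz' : act (yel i b) z i = 1 := by rw [act_yel]; simp [hz]
  refine ⟨?_, fun μ hμ => ?_⟩
  · rw [M.levi]; exact Submodule.smul_mem _ _ (dl_mem_slice hz')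
  · have e : yel i (act (yel i b) z) = yel i b * yel i z := by
      rw [← yel_add]
      refine yel_congr i fun k hk => ?_
      rw [act_yel]; simp [hz, hk, add_comm]
    rw [M.levi, map_smul, lext_dl, sl, sl, e, M.χ_mul, lev_mul_lev, map_mul, Module.End.mul_apply,
      map_smul, smul_smul, mul_inv, ← mul_assoc, mul_inv_cancel₀ (χ_ne M _), one_mul]

theorem inv_stab {g : symplecticGroup (Fin n) F} {L : Submodule ℂ ((Fin n → F) → ℂ)}
    (h : ∀ f ∈ L, M.ω g f ∈ L) : ∀ f ∈ L, M.ω g⁻¹ f ∈ L := by
  classical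
  intro f hf
  rw [inv_eq_of_mul_eq_one_right (show g * g ^ (orderOf g - 1) = 1 by
    rw [← pow_succ', Nat.sub_add_cancel (orderOf_pos g), pow_orderOf_eq_one]), map_pow]
  generalize orderOf g - 1 = k
  induction k with
  | zero => simpa using hf
  | succ k ih => rw [pow_succ', Module.End.mul_apply]; exact h _ ih

theorem lev_yel_wel {j : Fin n} (hij : i ≠ j) {b : Fin n → F} (hb : b j = 0) :
    lev (yel i b) * wel {j} = wel {j} * lev (yel i b) := by
  have h1 : (Pi.single i (1 : F) : Fin n → F) j = 0 := by simp [hij.symm]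
  have hb' : Function.update b i (0 : F) j = 0 := by simp [hij.symm, hb]
  have k1 : ∀ v : Fin n → F, v j = 0 → (prj {j} : Matrix (Fin n) (Fin n) F) *ᵥ v = 0 := by
    intro v hv; funext k
    by_cases hk : k = j
    · subst hk; simp [prj, mulVec_diagonal, hv]
    · simp [prj, mulVec_diagonal, hk]
  have e1 : ((yel i b : GL (Fin n) F) : Matrix (Fin n) (Fin n) F) * prj {j} = prj {j} := by
    show (1 - _) * _ = _
    rw [sub_mul, one_mul, vecMulVec_mul, ← mulVec_transpose, prj_transpose, k1 _ hb']
    simp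
  have e2 : prj {j} * ((yel i b : GL (Fin n) F) : Matrix (Fin n) (Fin n) F) = prj {j} := by
    show _ * (1 - _) = _
    rw [mul_sub, mul_one, mul_vecMulVec, k1 _ h1]
    simp
  have e3 : (((yel i b)⁻¹ : GL (Fin n) F) : Matrix (Fin n) (Fin n) F)ᵀ * prj {j} = prj {j} := by
    show (1 + _)ᵀ * _ = _
    rw [transpose_add, transpose_one, transpose_vecMulVec, add_mul, one_mul, vecMulVec_mul,
      ← mulVec_transpose, prj_transpose, k1 _ h1]
    simp
  have e4 : prj {j} * (((yel i b)⁻¹ : GL (Fin n) F) : Matrix (Fin n) (Fin n) F)ᵀ = prj {j} := by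
    show _ * (1 + _)ᵀ = _
    rw [transpose_add, transpose_one, transpose_vecMulVec, mul_add, mul_one, mul_vecMulVec, k1 _ hb']
    simp
  exact lev_wel (by rw [e1, e2]) (by rw [e3, e4]) (by rw [e1, e4])

theorem yel_single {j : Fin n} (hij : i ≠ j) (t : F) :
    ((yel i (Pi.single j t) : GL (Fin n) F) : Matrix (Fin n) (Fin n) F) =
      1 - Matrix.single i j t ∧
    (((yel i (Pi.single j t))⁻¹ : GL (Fin n) F) : Matrix (Fin n) (Fin n) F) =
      1 + Matrix.single i j t := by
  have h : vecMulVec (Pi.single i (1 : F)) (Function.update (Pi.single j t) i 0) =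
      Matrix.single i j t := by
    ext a b
    by_cases hb : b = i
    · subst hb; simp [vecMulVec_apply, Matrix.single_apply, hij.symm]
    · by_cases hbj : b = j
      · subst hbj
        by_cases ha : a = i <;> simp [vecMulVec_apply, Matrix.single_apply, ha, hb, Ne.symm]
      · simp [vecMulVec_apply, Matrix.single_apply, hb, hbj, Ne.symm hbj]
  constructor
  · show 1 - _ = _; rw [h]
  · show 1 + _ = _; rw [h]

theorem rk2_single (j : Fin n) (t : F) :
    (rk2 t (Pi.single i 1) (Pi.single j 1)).1 = Matrix.single i j t + Matrix.single j i t := by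
  simp only [rk2, smul_add]
  congr 1 <;> ext a b <;>
    simp only [Matrix.smul_apply, vecMulVec_apply, Matrix.single_apply, smul_eq_mul] <;>
    by_cases ha : a = i <;> by_cases hb : b = j <;> by_cases ha' : a = j <;> by_cases hb' : b = i <;>
    simp_all [eq_comm]

theorem prj_mul_single (j a b : Fin n) (t : F) :
    prj {j} * Matrix.single a b t = if a = j then Matrix.single a b t else 0 := by
  ext u v
  by_cases hu : u = a
  · subst hu
    by_cases huj : u = j <;> simp [prj, Matrix.diagonal_mul, huj]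
  · split <;> simp [prj, Matrix.diagonal_mul, Matrix.single_apply, Ne.symm hu]

theorem single_mul_prj (j a b : Fin n) (t : F) :
    Matrix.single a b t * prj {j} = if b = j then Matrix.single a b t else 0 := by
  ext u v
  by_cases hv : v = b
  · subst hv
    by_cases huj : v = j <;> simp [prj, Matrix.mul_diagonal, huj]
  · split <;> simp [prj, Matrix.mul_diagonal, Matrix.single_apply, Ne.symm hv]

theorem wel_sieg_rk2 {j : Fin n} (hij : i ≠ j) (t : F) :
    wel {j} * sieg (rk2 t (Pi.single i 1) (Pi.single j 1)) =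
      lev (yel i (Pi.single j (-t))) * wel {j} := by
  obtain ⟨h1, h2⟩ := yel_single i hij (-t)
  apply Subtype.ext
  simp only [Submonoid.coe_mul, wel, sieg, coe_lev, h1, h2, rk2_single, fromBlocks_multiply,
    transpose_add, transpose_one, Matrix.transpose_single]
  simp [mul_sub, sub_mul, mul_add, add_mul, prj_mul_single, single_mul_prj, hij, hij.symm,
    Matrix.single_neg]
  constructor <;> (simp only [← neg_smul, neg_one_smul, ← Matrix.single_neg, neg_neg]; abel)

theorem wel_lev_yel {j : Fin n} (hij : i ≠ j) (t : F) :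
    wel {j} * lev (yel i (Pi.single j t)) =
      sieg (rk2 t (Pi.single i 1) (Pi.single j 1)) * wel {j} := by
  obtain ⟨h1, h2⟩ := yel_single i hij t
  apply Subtype.ext
  simp only [Submonoid.coe_mul, wel, sieg, coe_lev, h1, h2, rk2_single, fromBlocks_multiply,
    transpose_add, transpose_one, Matrix.transpose_single]
  simp [mul_sub, sub_mul, mul_add, add_mul, prj_mul_single, single_mul_prj, hij, hij.symm]
  abel

theorem conj_yel_mem {j : Fin n} (hij : i ≠ j) (b : Fin n → F) :
    wel {j} * lev (yel i b) * (wel {j})⁻¹ ∈ Kset M ρ i := by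
  have hb : b = Function.update b j 0 + Pi.single j (b j) := by
    funext k; by_cases hk : k = j
    · subst hk; simp
    · simp [hk]
  have h : wel {j} * lev (yel i b) * (wel {j})⁻¹ =
      lev (yel i (Function.update b j 0)) * sieg (rk2 (b j) (Pi.single i 1) (Pi.single j 1)) := by
    rw [mul_inv_eq_iff_eq_mul]
    conv_lhs => rw [hb, yel_add, lev_mul_lev, ← mul_assoc, ← lev_yel_wel i hij (by simp)]
    rw [mul_assoc, wel_lev_yel i hij, ← mul_assoc]
  rw [h]
  exact (Kset M ρ i).mul_mem (yel_mem M ρ i _) (sieg_mem M ρ i _)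

variable (h2 : (2 : F) ≠ 0) (hψ : ψ.IsPrimitive)
  (hrank : ∀ (φ : AddChar (Sym n F) ℂ) (v : V), v ≠ 0 → v ∈ eig (fun S => ρ (sieg S)) φ →
    ∃ (c : F) (x : Fin n → F), ∀ S, φ S = ψ (c * qv S x))

include h2 hψ hrank in
/-- twisting by a partial Fourier element -/
theorem twist {j : Fin n} (hij : i ≠ j) {μ : V} (hμ : μ ∈ Ms ψ ρ i) :
    ∃ μ' ∈ Ms ψ ρ i, ∀ f ∈ slice i,
      lext (sl M ρ i μ) (M.ω (wel {j}) f) = ρ (wel {j}) (lext (sl M ρ i μ') f) := by
  classical
  haveI : Fintype (Sym n F) := Fintype.ofFinite _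
  set w : symplecticGroup (Fin n) F := wel {j}
  have hstab : ∀ f ∈ slice i, M.ω w f ∈ slice i := by
    intro f hf
    rw [← sum_dl f, map_sum]
    refine Submodule.sum_mem _ fun z _ => ?_
    by_cases hz : f z = 0
    · simp [hz]
    · rw [map_smul, M.fourier]
      exact Submodule.smul_mem _ _ (Submodule.sum_mem _ fun r _ =>
        Submodule.smul_mem _ _ (dl_mem_slice (by simp [hij, hf z hz])))
  let v : ((Fin n → F) → ℂ) → V := fun f => ρ w⁻¹ (lext (sl M ρ i μ) (M.ω w f))
  have hv : ∀ k, w * k * w⁻¹ ∈ Kset M ρ i → ∀ f ∈ slice i, v (M.ω k f) = ρ k (v f) := by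
    intro k hk f hf
    simp only [v]
    rw [← Module.End.mul_apply, ← map_mul, show w * k = (w * k * w⁻¹) * w by group, map_mul,
      Module.End.mul_apply, (hk _ (hstab f hf)).2 μ hμ, ← Module.End.mul_apply, ← map_mul,
      ← Module.End.mul_apply, ← map_mul]
    congr 2
    group
  let e : Fin n → F := Pi.single i 1
  have he : e i = 1 := by simp [e]
  refine ⟨v (dl e), ?_, fun f hf => ?_⟩
  · refine mem_eig_of_subset (fun a b => by rw [sieg_add, map_mul]) (by rw [sieg_zero, map_one])
      {S : Sym n F | w * sieg S * w⁻¹ ∈ Kset M ρ i} _ (fun S hS => ?_) (fun φ u hu hu' hφ => ?_)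
    · rw [← hv _ hS _ (dl_mem_slice he), M.sieg]
      simp only [v, map_smul]
      rfl
    · obtain ⟨c, x, hcx⟩ := hrank φ u hu hu'
      have hcomm : ∀ S : Sym n F, prj {j} * S.1 = 0 → w * sieg S * w⁻¹ ∈ Kset M ρ i := by
        intro S hS
        rw [← sieg_wel_comm hS, mul_inv_cancel_right]
        exact sieg_mem M ρ i S
      have h1 : c * (x i * x i) = 1 := by
        refine shift_inj hψ fun t => ?_
        have hS : w * sieg (rk1 t e) * w⁻¹ ∈ Kset M ρ i := hcomm _ (by
          simp [rk1, e, ← prj_singleton, prj_mul, hij.symm]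
          simp [prj])
        have := hφ _ hS
        rw [hcx, qchar_apply, qv_rk1, qv_rk1] at this
        simp [e, single_dotProduct] at this
        rw [one_mul, show c * (x i * x i) * t = c * (t * x i * x i) by ring, this]
      have h3 : ∀ k, k ≠ i → x k = 0 := by
        intro k hk
        have hkey : c * x i * x k * 2 = 0 := by
          refine shift_inj hψ fun t => ?_
          have hS : w * sieg (rk2 t e (Pi.single k 1)) * w⁻¹ ∈ Kset M ρ i := by
            by_cases hkj : k = j
            · subst hkj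
              rw [wel_sieg_rk2 i hij t, mul_inv_cancel_right]
              exact yel_mem M ρ i _
            · exact hcomm _ (by
                rw [rk2_single, mul_add, prj_mul_single, prj_mul_single, if_neg hij, if_neg hkj,
                  add_zero])
          have := hφ _ hS
          rw [hcx, qchar_apply, qv_rk2, qv_rk2] at this
          simp [e, single_dotProduct, hk] at this
          rw [zero_mul, AddChar.map_zero_eq_one,
            show c * x i * x k * 2 * t = c * (2 * t * x i * x k) by ring, this]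
        have hc : c * x i ≠ 0 := fun h0 => by
          rw [← mul_assoc, h0, zero_mul] at h1; exact zero_ne_one h1
        exact (mul_eq_zero.mp ((mul_eq_zero.mp hkey).resolve_right h2)).resolve_left hc
      ext S
      rw [hcx, qchar_apply]
      congr 1
      have hx : x = x i • (Pi.single i 1 : Fin n → F) := by
        funext k; by_cases hk : k = i
        · subst hk; simp
        · simp [hk, h3 k hk]
      rw [hx]
      simp only [qv, mulVec_smul, dotProduct_smul, smul_dotProduct, smul_eq_mul]
      linear_combination ((Pi.single i (1 : F) : Fin n → F) ⬝ᵥ (S.1 *ᵥ Pi.single i 1)) * h1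
  · have key : ∀ z : Fin n → F, z i = 1 → lext (sl M ρ i μ) (M.ω w (dl z)) =
        ρ w (sl M ρ i (v (dl e)) z) := by
      intro z hz
      have h := hv _ (conj_yel_mem M ρ i hij z) _ (dl_mem_slice he)
      rw [M.levi, act_yel_slice i hz] at h
      simp only [v, map_smul] at h
      rw [sl, map_smul, ← h, map_smul, smul_smul, inv_mul_cancel₀ (χ_ne M _), one_smul,
        ← Module.End.mul_apply, ← map_mul, mul_inv_cancel, map_one, Module.End.one_apply]
    conv_lhs => rw [← sum_dl f]
    rw [lext_apply (sl M ρ i (v (dl e))) f, map_sum, map_sum, map_sum]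
    refine Finset.sum_congr rfl fun z _ => ?_
    by_cases hz : f z = 0
    · simp [hz]
    · rw [map_smul, map_smul, map_smul, key z (hf z hz)]

include h2 hψ hrank in
theorem wel_mem_Kset {j : Fin n} (hij : i ≠ j) : wel {j} ∈ Kset M ρ i := by
  set w : symplecticGroup (Fin n) F := wel {j}
  set u : symplecticGroup (Fin n) F := sieg (rk1 1 (Pi.single j 1))
  have hpr : prj {j} * (-rk1 (1 : F) (Pi.single j 1 : Fin n → F)).1 =
      (-rk1 (1 : F) (Pi.single j 1 : Fin n → F)).1 := by
    simp [rk1, ← prj_singleton, prj_self]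
  have hlow : low (-rk1 1 (Pi.single j 1)) * w = w * u := by
    have := low_wel (s := {j}) hpr
    rwa [neg_neg] at this
  have hstab : ∀ f ∈ slice i, M.ω w f ∈ slice i := by
    intro f hf
    rw [← sum_dl f, map_sum]
    refine Submodule.sum_mem _ fun z _ => ?_
    by_cases hz : f z = 0
    · simp [hz]
    · rw [map_smul, M.fourier]
      exact Submodule.smul_mem _ _ (Submodule.sum_mem _ fun r _ =>
        Submodule.smul_mem _ _ (dl_mem_slice (by simp [hij, hf z hz])))
  have hmem : low (-rk1 1 (Pi.single j 1)) ∈ Kset M ρ i := by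
    intro f hf
    have hf' : M.ω w⁻¹ f ∈ slice i := inv_stab M hstab f hf
    have hu := (sieg_mem M ρ i (rk1 1 (Pi.single j 1))) _ hf'
    have e0 : M.ω (low (-rk1 1 (Pi.single j 1))) f = M.ω w (M.ω u (M.ω w⁻¹ f)) := by
      rw [← Module.End.mul_apply, ← map_mul, ← hlow, ← Module.End.mul_apply, ← map_mul,
        mul_inv_cancel_right]
    refine ⟨by rw [e0]; exact hstab _ hu.1, fun μ hμ => ?_⟩
    obtain ⟨μ', hμ', htw⟩ := twist M ρ i h2 hψ hrank hij hμ
    have e1 : lext (sl M ρ i μ) f = ρ w (lext (sl M ρ i μ') (M.ω w⁻¹ f)) := by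
      rw [← htw _ hf', ← Module.End.mul_apply, ← map_mul, mul_inv_cancel, map_one,
        Module.End.one_apply]
    rw [e0, htw _ hu.1, hu.2 _ hμ', e1, ← Module.End.mul_apply, ← map_mul, ← hlow, map_mul,
      Module.End.mul_apply]
  rw [show w = u * low (-rk1 1 (Pi.single j 1)) * u from wel_eq j]
  exact (Kset M ρ i).mul_mem ((Kset M ρ i).mul_mem (sieg_mem M ρ i _) hmem) (sieg_mem M ρ i _)

include h2 hψ hrank in
theorem lev_symm_mem (g : GL (Fin n) F)
    (hsym : (g : Matrix (Fin n) (Fin n) F)ᵀ = g)
    (hrow : (g : Matrix (Fin n) (Fin n) F) *ᵥ Pi.single i 1 = Pi.single i 1) :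
    lev g ∈ Kset M ρ i := by
  classical
  set s : Finset (Fin n) := Finset.univ.erase i
  set g' : Matrix (Fin n) (Fin n) F := ((g⁻¹ : GL (Fin n) F) : Matrix (Fin n) (Fin n) F) with hg'
  have hE : (1 - prj s : Matrix (Fin n) (Fin n) F) = prj {i} := by
    rw [prj, prj, ← diagonal_one, diagonal_sub]
    congr 1
    funext k
    by_cases hk : k = i <;> simp [s, hk]
  have hsym' : g'ᵀ = g' := by
    rw [hg', Matrix.coe_units_inv, transpose_nonsing_inv, hsym]
  have hrow' : g' *ᵥ Pi.single i 1 = Pi.single i 1 := by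
    conv_lhs => rw [← hrow]
    rw [hg', mulVec_mulVec, Units.inv_mul, one_mulVec]
  have side : ∀ m : Matrix (Fin n) (Fin n) F, mᵀ = m → m *ᵥ Pi.single i 1 = Pi.single i 1 →
      m * prj {i} = prj {i} ∧ prj {i} * m = prj {i} := by
    intro m hm hr
    constructor
    · rw [prj_singleton, mul_vecMulVec, hr]
    · rw [prj_singleton, vecMulVec_mul, ← mulVec_transpose, hm, hr]
  obtain ⟨a1, a2⟩ := side _ hsym hrow
  obtain ⟨b1, b2⟩ := side _ hsym' hrow'
  have hp : (prj s : Matrix (Fin n) (Fin n) F) = 1 - prj {i} := by rw [← hE, sub_sub_cancel]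
  let A : Sym n F := ⟨prj s * (g : Matrix (Fin n) (Fin n) F), by
    show (prj s * (g : Matrix (Fin n) (Fin n) F))ᵀ = _
    rw [transpose_mul, hsym, prj_transpose, hp, mul_sub, sub_mul, a1, a2, mul_one, one_mul]⟩
  let B : Sym n F := ⟨prj s * g', by
    show (prj s * g')ᵀ = _
    rw [transpose_mul, hsym', prj_transpose, hp, mul_sub, sub_mul, b1, b2, mul_one, one_mul]⟩
  have key := lev_symm_eq (s := s) (A := A) (B := B) g
    (by show _ = _ + prj s * _; rw [hE, hp, sub_mul, one_mul, a2]; abel)
    (by show _ = _ + prj s * g'; rw [← hg', hE, hp, sub_mul, one_mul, b2]; abel)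
    (by show prj s * (prj s * _) = prj s * _; rw [← Matrix.mul_assoc, prj_self])
    (by show prj s * (prj s * _) = prj s * _; rw [← Matrix.mul_assoc, prj_self])
    (by
      show prj s * (g : Matrix (Fin n) (Fin n) F) * (prj s * g') = prj s
      rw [Matrix.mul_assoc, ← Matrix.mul_assoc _ (prj s) g', hp, mul_sub, mul_one, a1,
        sub_mul (g : Matrix (Fin n) (Fin n) F), b2, hg', Units.mul_inv, ← hp, hp, mul_sub, mul_one,
        sub_mul, one_mul, prj_self, sub_self, sub_zero])
  have hw : wel s ∈ Kset M ρ i :=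
    wel_mem fun j hj => wel_mem_Kset M ρ i h2 hψ hrank (Finset.mem_erase.mp hj).1.symm
  have hinv : ∀ {x}, x ∈ Kset M ρ i → x⁻¹ ∈ Kset M ρ i := fun {x} hx => by
    rw [inv_eq_of_mul_eq_one_right (show x * x ^ (orderOf x - 1) = 1 by
      rw [← pow_succ', Nat.sub_add_cancel (orderOf_pos x), pow_orderOf_eq_one])]
    exact (Kset M ρ i).pow_mem hx _
  have hl : low (-B) ∈ Kset M ρ i := by
    have h := low_wel (B := -B) (s := s) (by
      show prj s * -(prj s * g') = -(prj s * g')
      rw [Matrix.mul_neg, ← Matrix.mul_assoc, prj_self])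
    rw [eq_mul_inv_iff_mul_eq.mpr h]
    exact (Kset M ρ i).mul_mem ((Kset M ρ i).mul_mem hw (sieg_mem M ρ i _)) (hinv hw)
  rw [eq_mul_inv_iff_mul_eq.mpr key]
  exact (Kset M ρ i).mul_mem ((Kset M ρ i).mul_mem ((Kset M ρ i).mul_mem (sieg_mem M ρ i _) hl)
    (sieg_mem M ρ i _)) (hinv hw)

theorem stab_of_mem {g : GL (Fin n) F} (hg : lev g ∈ Kset M ρ i)
    (hfix : act g (Pi.single i 1) = (Pi.single i 1 : Fin n → F)) {μ : V} (hμ : μ ∈ Ms ψ ρ i) :
    ρ (lev g) μ = M.χ g • μ := by
  have he : (Pi.single i 1 : Fin n → F) i = 1 := by simp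
  have hy : yel i (Pi.single i (1 : F)) = 1 := by
    apply Units.ext
    show 1 - vecMulVec (Pi.single i (1 : F)) (Function.update (Pi.single i 1) i 0) = 1
    rw [show Function.update (Pi.single i (1 : F)) i 0 = (0 : Fin n → F) by
      funext k; by_cases hk : k = i
      · subst hk; simp
      · simp [hk]]
    simp
  have hval : sl M ρ i μ (Pi.single i 1) = μ := by
    rw [sl, hy, M.χ_one, lev_one, map_one, inv_one, one_smul, Module.End.one_apply]
  have h := (hg _ (dl_mem_slice he)).2 μ hμ
  rw [M.levi, hfix, map_smul, lext_dl, hval] at h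
  exact h.symm

include h2 hψ hrank in
/-- the stabiliser acts as in the model -/
theorem stab {A : GL (Fin n) F}
    (hA : act A (Pi.single i 1) = (Pi.single i 1 : Fin n → F)) {μ : V} (hμ : μ ∈ Ms ψ ρ i) :
    ρ (lev A) μ = M.χ A • μ := by
  classical
  set e : Fin n → F := Pi.single i 1 with he
  let Γ : Submonoid (GL (Fin n) F) :=
    { carrier := {g | act g e = e ∧ ∀ m ∈ Ms ψ ρ i, ρ (lev g) m = M.χ g • m}
      one_mem' := ⟨act_one e, fun m _ => by rw [lev_one, map_one, M.χ_one, one_smul]; rfl⟩
      mul_mem' := fun {g h} hg hh => ⟨by rw [act_mul, hh.1, hg.1], fun m hm => by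
        rw [lev_mul_lev, map_mul, Module.End.mul_apply, hh.2 m hm, map_smul, hg.2 m hm, smul_smul,
          M.χ_mul, mul_comm]⟩ }
  have hsym : ∀ g : GL (Fin n) F, (g : Matrix (Fin n) (Fin n) F)ᵀ = g →
      (g : Matrix (Fin n) (Fin n) F) *ᵥ e = e → g ∈ Γ := by
    intro g hs hr
    have hf : act g e = e := (act_eq_iff _ _ _).2 (by rw [hs, hr])
    exact ⟨hf, fun m hm => stab_of_mem M ρ i (lev_symm_mem M ρ i h2 hψ hrank g hs hr) hf hm⟩
  let ι := {k : Fin n // k ≠ i}
  let E : ι ⊕ {k : Fin n // ¬ k ≠ i} ≃ Fin n := Equiv.sumCompl _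
  let emb : Matrix ι ι F →* Matrix (Fin n) (Fin n) F :=
    { toFun := fun D => (fromBlocks D 0 0 1).submatrix E.symm E.symm
      map_one' := by rw [fromBlocks_one, submatrix_one_equiv]
      map_mul' := fun D D' => by
        rw [submatrix_mul_equiv, fromBlocks_multiply]
        simp }
  let good : Matrix ι ι F → Prop := fun D => ∃ g ∈ Γ, (g : Matrix (Fin n) (Fin n) F) = emb D
  have embSym : ∀ D : Matrix ι ι F, Dᵀ = D → (hu : IsUnit D) → good D := by
    intro D hD hu
    refine ⟨(hu.map emb).unit, hsym _ ?_ ?_, rfl⟩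
    · show (emb D)ᵀ = emb D
      simp [emb, transpose_submatrix, fromBlocks_transpose, hD]
    · show emb D *ᵥ e = e
      funext k
      rw [he, mulVec_single_one]
      obtain ⟨k', rfl⟩ := E.surjective k
      rcases k' with ⟨k', hk⟩ | ⟨k', hk⟩
      · simp [emb, E, Equiv.sumCompl, Matrix.col_apply, hk]
      · obtain rfl := not_not.mp hk
        simp [emb, E, Equiv.sumCompl, Matrix.col_apply]
  have hgood : ∀ D : Matrix ι ι F, D.det ≠ 0 → good D := by
    intro D hD
    refine Matrix.diagonal_transvection_induction_of_det_ne_zero good D hD (fun d hd => ?_)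
      (fun t => ?_) (fun A B _ _ hA hB => ?_)
    · exact embSym _ (diagonal_transpose d)
        ((Matrix.isUnit_iff_isUnit_det _).2 (isUnit_iff_ne_zero.2 hd))
    · obtain ⟨a, b, hab, c⟩ := t
      let S₂ : Matrix ι ι F := (1 : Matrix ι ι F).submatrix (Equiv.swap a b) id
      have hS2 : S₂ᵀ = S₂ := by
        ext p r
        simp only [S₂, transpose_apply, submatrix_apply, id, Matrix.one_apply]
        by_cases h : Equiv.swap a b p = r
        · rw [if_pos h, if_pos]; rw [← h, Equiv.swap_apply_self]
        · rw [if_neg h, if_neg]; exact fun h' => h (by rw [← h', Equiv.swap_apply_self])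
      have hSS : S₂ * S₂ = 1 := by
        ext p r
        rw [Matrix.mul_apply, Finset.sum_eq_single (Equiv.swap a b p)]
        · simp [S₂, Matrix.one_apply]
        · intro q _ hq; simp [S₂, Matrix.one_apply, Ne.symm hq]
        · simp
      have hsgl : Matrix.single a b c * S₂ = Matrix.single a a c := by
        ext p r
        rw [Matrix.mul_apply, Finset.sum_eq_single b]
        · by_cases hp : p = a
          · subst hp
            by_cases hr : r = p
            · subst hr; simp [S₂, Matrix.one_apply]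
            · simp [S₂, Matrix.one_apply, Matrix.single_apply, Ne.symm hr]
          · simp [Matrix.single_apply, Ne.symm hp]
        · intro q _ hq; simp [Matrix.single_apply, hq.symm]
        · simp
      have hS1 : (Matrix.transvection a b c * S₂)ᵀ = Matrix.transvection a b c * S₂ := by
        rw [Matrix.transvection, add_mul, one_mul, hsgl, transpose_add, hS2, Matrix.transpose_single]
      have hu2 : IsUnit S₂ := ⟨⟨S₂, S₂, hSS, hSS⟩, rfl⟩
      have hu1 : IsUnit (Matrix.transvection a b c * S₂) := by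
        refine IsUnit.mul ?_ hu2
        rw [Matrix.isUnit_iff_isUnit_det, Matrix.det_transvection_of_ne _ _ hab]
        exact isUnit_one
      obtain ⟨g1, hg1, hv1⟩ := embSym _ hS1 hu1
      obtain ⟨g2, hg2, hv2⟩ := embSym _ hS2 hu2
      refine ⟨g1 * g2, Γ.mul_mem hg1 hg2, ?_⟩
      rw [Units.val_mul, hv1, hv2, ← map_mul, mul_assoc, hSS, mul_one]
      rfl
    · obtain ⟨g1, hg1, hv1⟩ := hA
      obtain ⟨g2, hg2, hv2⟩ := hB
      exact ⟨g1 * g2, Γ.mul_mem hg1 hg2, by rw [Units.val_mul, hv1, hv2, map_mul]⟩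
  -- the column part
  let col : (Fin n → F) → GL (Fin n) F := fun c =>
    { val := 1 + vecMulVec (Function.update c i 0) e
      inv := 1 - vecMulVec (Function.update c i 0) e
      val_inv := by simp [he, mul_sub, add_mul, vecMulVec_mul_vecMulVec, single_dotProduct]
      inv_val := by simp [he, mul_add, sub_mul, vecMulVec_mul_vecMulVec, single_dotProduct] }
  have hcolfix : ∀ c, act (col c) e = e := fun c => by
    show (1 - vecMulVec (Function.update c i 0) e)ᵀ *ᵥ e = e
    funext k
    simp [he, transpose_sub, transpose_vecMulVec, sub_mulVec, vecMulVec_mulVec, dotProduct_single,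
      Matrix.col_apply, Matrix.sub_apply, vecMulVec_apply, Matrix.one_apply, Pi.single_apply]
  have hcol : ∀ c, col c ∈ Γ := by
    intro c
    let d : GL (Fin n) F :=
      { val := Matrix.diagonal fun k => if k = i then 1 else 2
        inv := Matrix.diagonal fun k => if k = i then 1 else (2 : F)⁻¹
        val_inv := by
          rw [diagonal_mul_diagonal, ← diagonal_one]; congr 1; funext k
          split <;> simp [h2]
        inv_val := by
          rw [diagonal_mul_diagonal, ← diagonal_one]; congr 1; funext k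
          split <;> simp [h2] }
    have hd : d ∈ Γ := hsym d (diagonal_transpose _) (by
      funext k
      show (Matrix.diagonal (fun k => if k = i then (1 : F) else 2) *ᵥ e) k = e k
      by_cases hk : k = i <;> simp [he, mulVec_diagonal, hk])
    have hconj : d * col c = col c * col c * d := by
      apply Units.ext
      show Matrix.diagonal _ * (1 + vecMulVec _ e) =
        (1 + vecMulVec _ e) * (1 + vecMulVec _ e) * Matrix.diagonal _
      ext p r
      by_cases hp : p = i <;> by_cases hr : r = i <;>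
        simp [he, mul_add, add_mul, vecMulVec_mul_vecMulVec, single_dotProduct, Matrix.add_apply,
          Matrix.diagonal_mul, Matrix.mul_diagonal, vecMulVec_apply, hp, hr, Ne.symm, Matrix.one_apply] <;>
        ring
    refine ⟨hcolfix c, fun m hm => ?_⟩
    set ν := ρ (lev (col c)) m with hν'
    have hν : ν ∈ Ms ψ ρ i := by
      have := rho_sieg_lev ρ hm (col c)
      rwa [hcolfix c] at this
    have h1 := congrArg (fun g => ρ (lev g) m) hconj
    simp only [lev_mul_lev, map_mul, Module.End.mul_apply, hd.2 _ hν, hd.2 _ hm, map_smul,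
      ← hν'] at h1
    have h1' := smul_right_injective V (χ_ne M d) h1
    have hinj : Function.Injective (ρ (lev (col c))) :=
      Function.LeftInverse.injective (g := ρ (lev (col c))⁻¹) fun x => by
        rw [← Module.End.mul_apply, ← map_mul, inv_mul_cancel, map_one, Module.End.one_apply]
    have hmm : ν = m := (hinj h1').symm
    have hχ : M.χ (col c) = 1 := by
      have h := congrArg M.χ hconj
      simp only [M.χ_mul] at h
      refine mul_left_cancel₀ (mul_ne_zero (χ_ne M (col c)) (χ_ne M d)) ?_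
      linear_combination -h
    rw [hmm, hχ, one_smul]
  have hrowA : (A : Matrix (Fin n) (Fin n) F)ᵀ *ᵥ e = e := ((act_eq_iff _ _ _).1 hA).symm
  let c : Fin n → F := fun k => (A : Matrix (Fin n) (Fin n) F) k i
  set D : GL (Fin n) F := (col c)⁻¹ * A
  have hAi : ∀ r, (A : Matrix (Fin n) (Fin n) F) i r = e r := fun r => by
    rw [← congrFun hrowA r, he, mulVec_single_one]; rfl
  have hDval : ∀ p r, (D : Matrix (Fin n) (Fin n) F) p r =
      (A : Matrix (Fin n) (Fin n) F) p r - Function.update c i 0 p * e r := fun p r => by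
    show ((1 - vecMulVec (Function.update c i 0) e) * (A : Matrix (Fin n) (Fin n) F)) p r = _
    rw [sub_mul, one_mul, Matrix.sub_apply, vecMulVec_mul, ← mulVec_transpose, hrowA,
      vecMulVec_apply]
  let D₀ : Matrix ι ι F := (D : Matrix (Fin n) (Fin n) F).submatrix Subtype.val Subtype.val
  have hemb : emb D₀ = (D : Matrix (Fin n) (Fin n) F) := by
    ext p r
    obtain ⟨p', rfl⟩ := E.surjective p
    obtain ⟨r', rfl⟩ := E.surjective r
    rcases p' with ⟨p', hp⟩ | ⟨p', hp⟩ <;> rcases r' with ⟨r', hr⟩ | ⟨r', hr⟩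
    · simp [emb, E, D₀, Equiv.sumCompl, hp, hr]
    · obtain rfl := not_not.mp hr
      simp [emb, E, Equiv.sumCompl, hp, hDval, c, he]
    · obtain rfl := not_not.mp hp
      simp [emb, E, Equiv.sumCompl, hr, hDval, hAi, he]
    · obtain rfl := not_not.mp hp
      obtain rfl := not_not.mp hr
      simp [emb, E, Equiv.sumCompl, hDval, hAi, he]
  have hdet : D₀.det ≠ 0 := by
    have h := ((Matrix.isUnit_iff_isUnit_det _).1 D.isUnit).ne_zero
    rw [← hemb] at h
    simp only [emb, MonoidHom.coe_mk, OneHom.coe_mk, det_submatrix_equiv_self,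
      det_fromBlocks_zero₂₁, det_one, mul_one] at h
    exact h
  obtain ⟨g, hg, hgv⟩ := hgood D₀ hdet
  obtain rfl : g = D := Units.ext (hgv.trans hemb)
  have hAΓ : A ∈ Γ := by
    have := Γ.mul_mem (hcol c) hg
    rwa [mul_inv_cancel_left] at this
  exact hAΓ.2 μ hμ

end Cfsg.Agent.CrossChar56.RankOne
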